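import Cfsg.Agent.H4.CAOdd2
import Cfsg.Agent.H5.Invol

/-! Simple CA-groups of even order (Brauer, Suzuki, Wall). -/

set_option autoImplicit false

namespace Cfsg.Agent.H4.CAEven

open Cfsg.Agent.H4.FeitLow Cfsg.Agent.H4.CABasic Cfsg.Agent.H4.Irr Cfsg.Agent.H4.AbChar
open Cfsg.Agent.H4.CAChar Cfsg.Agent.H4.CAOdd2 Cfsg.Agent.H5.Invol

variable {G : Type*} [Group G] [Fintype G] {A : Subgroup G}
variable {N : ℕ} {d : Fin N → ℕ} {ρ : ∀ i, Representation ℂ G (Fin (d i) → ℂ)}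

theorem upper [IsSimpleGroup G] (hρ : IsIrrSys ρ) (hA : IsCA A) (K₀ : Subgroup G) (hK₀ : K₀ ≤ A)
    (hK₀1 : K₀ ≠ ⊥) (hn₀ : ∀ g ∈ Subgroup.normalizer (A : Set G), ∀ u ∈ K₀, g * u * g⁻¹ ∈ K₀) :
    ∃ e : ℕ, e * (Nat.card A * Nat.card A) + Nat.card (Subgroup.normalizer (A : Set G)) =
      Nat.card G ∧ N * A.relIndex (Subgroup.normalizer (A : Set G)) +
      Nat.card {μ : A →* ℂˣ // ∀ k : A, (k : G) ∈ K₀ → μ k = 1} ≤
      (1 + e) * A.relIndex (Subgroup.normalizer (A : Set G)) + Nat.card A := by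
  classical
  obtain ⟨e, he, F1, -⟩ := exists_e hρ hA
  refine ⟨e, he, ?_⟩
  set t := A.relIndex (Subgroup.normalizer (A : Set G)) with ht
  have hc' := hA.comm'
  haveI := finite_chars hc'
  haveI := Fintype.ofFinite (A →* ℂˣ)
  have F1' : ∀ lam : A →* ℂˣ, lam ≠ 1 → ∑ i, mult ρ lam i * mult ρ lam i = e + 1 := by
    intro lam hl
    rw [F1 lam lam hl, if_pos (self_mem_orb _)]
  have F3 : ∀ lam μ : A →* ℂˣ, lam ≠ 1 → μ ≠ 1 → ∀ i j, mult ρ lam i = 0 → mult ρ μ i ≠ 0 →
      mult ρ lam j = 0 → mult ρ μ j ≠ 0 → i = j := fun lam μ hl hμ =>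
    (FeitUp.at_most_one d hρ.pos _ _ e _ (F1' lam hl) (F1' μ hμ)
      (F1 lam μ hl) (sum_deg_eq hρ lam μ)).2
  let S : Finset (A →* ℂˣ) := Finset.univ.filter fun μ => ¬ ∀ k : A, (k : G) ∈ K₀ → μ k = 1
  have hS1 : ∀ μ ∈ S, μ ≠ 1 := by
    rintro μ hμ rfl
    simp [S] at hμ
  have horbS : ∀ μ ∈ S, orb μ ⊆ S := by
    intro μ hμ ν hν
    obtain ⟨z, rfl⟩ := mem_orb.1 hν
    simp only [S, Finset.mem_filter, Finset.mem_univ, true_and] at hμ ⊢
    intro h
    apply hμ
    intro k hk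
    have := h (A.normalizerMonoidHom z⁻¹ k) (hn₀ _ z⁻¹.2 _ hk)
    rw [← this, act_apply]
    simp
  have hScard : S.card + Nat.card {μ : A →* ℂˣ // ∀ k : A, (k : G) ∈ K₀ → μ k = 1} =
      Nat.card A := by
    rw [← card_chars hc', Nat.card_eq_fintype_card, Nat.card_eq_fintype_card, Fintype.card_subtype,
      add_comm]
    exact Finset.card_filter_add_card_filter_not _
  obtain ⟨k₀, hk₀⟩ := (Subgroup.ne_bot_iff_exists_ne_one).1 hK₀1
  obtain ⟨lam, hlam⟩ := exists_char_ne_one hc' (a := ⟨k₀, hK₀ k₀.2⟩)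
    (fun e => hk₀ (Subtype.ext (congrArg (fun x : A => (x : G)) e)))
  have hlamS : lam ∈ S := by
    simp only [S, Finset.mem_filter, Finset.mem_univ, true_and]
    exact fun h => hlam (h _ k₀.2)
  have hl1 := hS1 lam hlamS
  let J : Finset (Fin N) := Finset.univ.filter fun j =>
    mult ρ lam j = 0 ∧ ∃ μ ∈ S, mult ρ μ j ≠ 0
  have hJ : J.card * t ≤ (S \ orb lam).card * 1 := by
    refine Finset.card_mul_le_card_mul (fun j μ => mult ρ μ j ≠ 0) (fun j hj => ?_)
      (fun μ hμ => ?_)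
    · obtain ⟨hj0, μ, hμ, hj1⟩ := (Finset.mem_filter.1 hj).2
      rw [ht, ← card_orb hA (hS1 μ hμ)]
      refine Finset.card_le_card fun ν hν => ?_
      have h4 := mult_orb hρ hA (hS1 μ hμ) hν
      rw [Finset.mem_bipartiteAbove, Finset.mem_sdiff]
      refine ⟨⟨horbS μ hμ hν, fun h5 => ?_⟩, h4 ▸ hj1⟩
      rw [h4, ← mult_orb hρ hA hl1 h5] at hj1
      exact hj1 hj0
    · rw [Finset.card_le_one]
      intro i hi j hj
      rw [Finset.mem_bipartiteBelow] at hi hj
      exact F3 lam μ hl1 (hS1 μ (Finset.mem_sdiff.1 hμ).1) i j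
        (Finset.mem_filter.1 hi.1).2.1 hi.2 (Finset.mem_filter.1 hj.1).2.1 hj.2
  rw [mul_one, Finset.card_sdiff_of_subset (horbS lam hlamS), card_orb hA hl1, ← ht] at hJ
  have hSe : t ≤ S.card := by
    rw [ht, ← card_orb hA hl1]
    exact Finset.card_le_card (horbS lam hlamS)
  let P : Finset (Fin N) := Finset.univ.filter fun j => mult ρ lam j ≠ 0
  have hP : P.card ≤ e + 1 := by
    rw [← F1' lam hl1, Finset.card_filter]
    refine Finset.sum_le_sum fun j _ => ?_
    split_ifs with h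
    · exact Nat.mul_pos (Nat.pos_of_ne_zero h) (Nat.pos_of_ne_zero h)
    · exact Nat.zero_le _
  let Z : Finset (Fin N) := Finset.univ.filter fun j => ∀ μ ∈ S, mult ρ μ j = 0
  have hZ : Z.card ≤ 1 := by
    have key : ∀ j ∈ Z, ∀ g, ρ j g = 1 := by
      intro j hj
      have hj' := (Finset.mem_filter.1 hj).2
      have h4 : ∀ k : A, (k : G) ∈ K₀ →
          (ρ j).character k = ∑ μ : A →* ℂˣ, (mult ρ μ j : ℂ) := by
        intro k hk
        rw [char_eq_sum hA j k]
        refine Finset.sum_congr rfl fun μ _ => ?_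
        by_cases hμ : μ ∈ S
        · simp [hj' μ hμ]
        · simp only [S, Finset.mem_filter, Finset.mem_univ, true_and, not_not] at hμ
          simp [hμ k hk]
      have h5 := eq_one_of_char_eq (ρ j) K₀ (fun k hk => by
        rw [h4 ⟨k, hK₀ hk⟩ hk, ← h4 1 K₀.one_mem]
        rfl)
      have h6 : MonoidHom.ker (ρ j) = ⊤ := (IsSimpleGroup.eq_bot_or_eq_top_of_normal _
        inferInstance).resolve_left fun h => hK₀1 (eq_bot_iff.2 fun x hx => h ▸ h5 x hx)
      intro g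
      have : g ∈ MonoidHom.ker (ρ j) := h6 ▸ Subgroup.mem_top g
      exact this
    rw [Finset.card_le_one]
    exact fun i hi j hj => hρ.eq_of_trivial (key i hi) (key j hj)
  have hN : N ≤ Z.card + P.card + J.card := by
    have : (Finset.univ : Finset (Fin N)) ⊆ Z ∪ P ∪ J := by
      intro j _
      simp only [Z, P, J, Finset.mem_union, Finset.mem_filter, Finset.mem_univ, true_and]
      by_cases h : mult ρ lam j = 0
      · by_cases h' : ∃ μ ∈ S, mult ρ μ j ≠ 0
        · exact Or.inr ⟨h, h'⟩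
        · push Not at h'
          exact Or.inl (Or.inl h')
      · exact Or.inl (Or.inr h)
    have h4 := Finset.card_le_card this
    rw [Finset.card_univ, Fintype.card_fin] at h4
    exact h4.trans ((Finset.card_union_le _ _).trans
      (Nat.add_le_add_right (Finset.card_union_le _ _) _))
  have h8 : N * t ≤ (1 + (e + 1) + J.card) * t := Nat.mul_le_mul_right t (by omega)
  have h9 : (1 + (e + 1) + J.card) * t = (1 + e) * t + t + J.card * t := by ring
  omega

variable [DecidableEq G]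

theorem invs_conj [IsSimpleGroup G] (hna : ¬ ∀ x y : G, x * y = y * x) (hCT : CT G) {v w : G}
    (hv : v ∈ invs G) (hw : w ∈ invs G) : IsConj v w := by
  have key : ∀ v ∈ invs G, ∀ w ∈ invs G, IsConj v w ∨ v * w = w * v := by
    intro v hv w hw
    obtain ⟨hv1, hv2⟩ := mem_invs.1 hv
    obtain ⟨hw1, hw2⟩ := mem_invs.1 hw
    rcases Nat.even_or_odd (orderOf (v * w)) with h | h
    · obtain ⟨z, hz1, -, hz2, hz3⟩ := exists_central_involution hv1 hw1 h
      exact Or.inr (hCT v z w hv2 hz1 hw2 hz2.symm hz3)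
    · obtain ⟨k, hk1, hk2⟩ := exists_conj_involution hv1 hw1 h
      exact Or.inl (isConj_iff.2 ⟨_, by rw [inv_eq_of_mul_self hk1, hk2]⟩)
  rcases key v hv w hw with h | h
  · exact h
  by_cases hx : ∃ x ∈ invs G, x * v ≠ v * x
  · obtain ⟨x, hx, hxv⟩ := hx
    have h1 := (key x hx v hv).resolve_right hxv
    have h2 := (key x hx w hw).resolve_right fun h2 =>
      hxv (hCT x w v (mem_invs.1 hx).2 (mem_invs.1 hw).2 (mem_invs.1 hv).2 h2 h.symm)
    exact h1.symm.trans h2
  exfalso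
  push Not at hx
  have hC := hCT.isCA (mem_invs.1 hv).2
  have hle : Subgroup.normalClosure {v} ≤ Subgroup.centralizer {v} := by
    refine (Subgroup.closure_le _).2 fun y hy => ?_
    obtain ⟨z, hz, hc⟩ := Group.mem_conjugatesOfSet_iff.1 hy
    obtain ⟨c, rfl⟩ := isConj_iff.1 hc
    rw [Set.mem_singleton_iff.1 hz]
    exact Subgroup.mem_centralizer_singleton_iff.2 (hx _ ((conj_mem_invs c).2 hv))
  rcases IsSimpleGroup.eq_bot_or_eq_top_of_normal (Subgroup.normalClosure {v}) inferInstance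
    with h1 | h1
  · have : v ∈ Subgroup.normalClosure {v} := Subgroup.subset_normalClosure rfl
    rw [h1] at this
    exact (mem_invs.1 hv).2 this
  · rw [h1] at hle
    exact hna fun x y => hC.comm x (hle trivial) y (hle trivial)

omit [Fintype G] [DecidableEq G] in
theorem mem_of_sq_mem (A : Subgroup G) (hodd : Odd (A.relIndex (Subgroup.normalizer (A : Set G))))
    {u : G} (hu : u ∈ Subgroup.normalizer (A : Set G)) (h : u * u ∈ A) : u ∈ A := by
  obtain ⟨r, hr⟩ := hodd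
  have h1 : (⟨u, hu⟩ : Subgroup.normalizer (A : Set G)) ^ (2 * r + 1) ∈
      A.subgroupOf (Subgroup.normalizer (A : Set G)) := hr ▸ Subgroup.pow_index_mem _ _
  have h2 : u ^ (2 * r + 1) ∈ A := h1
  rw [pow_succ, pow_mul, pow_two] at h2
  exact (A.mul_mem_cancel_left (A.pow_mem h r)).1 h2

omit [DecidableEq G] in
theorem odd_index (hA : IsCA A) (hev : Even (Nat.card A)) :
    Odd (A.relIndex (Subgroup.normalizer (A : Set G))) := by
  refine Odd.of_dvd_nat ?_ hA.index_dvd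
  exact Nat.Even.sub_odd Nat.card_pos hev odd_one

theorem main_count [IsSimpleGroup G] (hna : ¬ ∀ x y : G, x * y = y * x) (hCT : CT G) {u : G}
    (hu : u ∈ invs G) (hA : IsCA A) (huA : u ∈ A) :
    (∀ k ∈ A, k * k = 1) ∧ conjs A = invs G ∧
    A.relIndex (Subgroup.normalizer (A : Set G)) + 1 = Nat.card A ∧
    ∀ x : G, x ≠ 1 → x ∉ invs G → jj x = cc x := by
  classical
  obtain ⟨N, d, ρ, hρ⟩ := exists_irrSys G
  obtain ⟨hu1, hu2⟩ := mem_invs.1 hu
  have hev : Even (Nat.card A) := even_card_of_involution huA hu2 hu1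
  have hto := odd_index hA hev
  obtain ⟨w, hw, hw'⟩ := exists_w hA
  have hI : invs G ⊆ conjs A := fun v hv => by
    obtain ⟨c, rfl⟩ := isConj_iff.1 (invs_conj hna hCT hu hv)
    exact mem_conjs.2 ⟨c, u, huA, hu2, rfl⟩
  have hIc : (invs G).card * Nat.card A = Nat.card G := by
    rw [← hA.cc_eq (hI hu), ← class_mul_cc u, ← Set.ncard_coe_finset]
    congr 2
    ext v
    refine ⟨fun hv => invs_conj hna hCT hu hv, fun hv => ?_⟩
    obtain ⟨c, rfl⟩ := isConj_iff.1 hv
    exact (conj_mem_invs c).2 hu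
  set t := A.relIndex (Subgroup.normalizer (A : Set G)) with ht
  have hIA : ((invs G).filter (· ∈ A)).card = t := by
    have h1 := hA.sum_conjs (fun x => if x ∈ invs G then 1 else (0 : ℕ))
      (fun g x => by simp only [conj_mem_invs])
    rw [← Finset.card_filter, ← Finset.card_filter, Finset.filter_mem_eq_inter,
      Finset.inter_eq_right.2 hI, ← card_mul_relIndex, ← hIc, smul_eq_mul, smul_eq_mul, ← ht] at h1
    have h2 : ((invs G).filter (· ∈ A)).card =
        ((Finset.univ.erase (1 : A)).filter fun x : A => (x : G) ∈ invs G).card := by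
      symm
      refine Finset.card_bij (fun x _ => (x : G)) (fun x hx => ?_) (fun _ _ _ _ => Subtype.ext) ?_
      · exact Finset.mem_filter.2 ⟨(Finset.mem_filter.1 hx).2, x.2⟩
      · intro x hx
        obtain ⟨h3, h4⟩ := Finset.mem_filter.1 hx
        exact ⟨⟨x, h4⟩, Finset.mem_filter.2 ⟨Finset.mem_erase.2
          ⟨fun e => (mem_invs.1 h3).2 (congrArg Subtype.val e), Finset.mem_univ _⟩, h3⟩, rfl⟩
    rw [h2]
    refine Nat.eq_of_mul_eq_mul_left (hIc ▸ Nat.card_pos (α := G)) ?_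
    convert h1.symm using 1
    · congr!
    · ring
  have hjj : ∀ x ∈ conjs A, jj x + (if x ∈ invs G then 1 else 0) ≤
      if x ∈ invs G then t else 0 := by
    intro x hx
    obtain ⟨y, a, ha, ha1, rfl⟩ := mem_conjs.1 hx
    simp only [jj_conj, conj_mem_invs]
    have h1 : ∀ v ∈ invs G, v * a ∈ invs G → v ∈ A := by
      intro v hv hva
      refine mem_of_sq_mem A hto (hA.mem_norm ha ha1 ?_) (by rw [(mem_invs.1 hv).1]; exact A.one_mem)
      rw [inverts hv hva, mul_inv_cancel_right]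
      exact A.inv_mem ha
    split_ifs with h
    · rw [← hIA, ← Finset.card_erase_add_one (Finset.mem_filter.2 ⟨h, ha⟩)]
      refine Nat.add_le_add_right (Finset.card_le_card fun v hv => ?_) 1
      obtain ⟨h2, h3⟩ := Finset.mem_filter.1 hv
      refine Finset.mem_erase.2 ⟨?_, Finset.mem_filter.2 ⟨h2, h1 v h2 h3⟩⟩
      rintro rfl
      exact (mem_invs.1 h3).2 (mem_invs.1 h2).1
    · rw [add_zero, Nat.le_zero, jj, Finset.card_eq_zero, Finset.filter_eq_empty_iff]
      intro v hv hva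
      have h2 := inverts hv hva
      rw [hA.comm v (h1 v hv hva) a ha, mul_left_inj, eq_inv_iff_mul_eq_one] at h2
      exact h (mem_invs.2 ⟨h2, ha1⟩)
  let R := (Finset.univ.erase (1 : G)) \ conjs A
  have hsplit : ∀ φ : G → ℕ, ∑ x, φ x = φ 1 + ∑ x ∈ conjs A, φ x + ∑ x ∈ R, φ x := by
    intro φ
    rw [← Finset.add_sum_erase _ _ (Finset.mem_univ (1 : G)), ← Finset.sum_sdiff (s₁ := conjs A)]
    · ring
    · intro x hx
      exact Finset.mem_erase.2 ⟨fun e => one_notMem_conjs A (e ▸ hx), Finset.mem_univ _⟩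
  have h1 : N * Nat.card G = ∑ x : G, cc x := hρ.card_mul
  rw [hsplit, cc_one, Finset.sum_congr rfl fun x hx => hA.cc_eq hx, Finset.sum_const, smul_eq_mul,
    mul_comm (conjs A).card, hw'] at h1
  have h2 := sum_jj (G := G)
  rw [hsplit, jj_one] at h2
  have h3 := Finset.sum_le_sum hjj
  rw [Finset.sum_add_distrib, ← Finset.card_filter, ← Finset.sum_filter, Finset.filter_mem_eq_inter,
    Finset.inter_eq_right.2 hI, Finset.sum_const, smul_eq_mul] at h3
  have h4 : ∑ x ∈ R, jj x ≤ ∑ x ∈ R, cc x := Finset.sum_le_sum fun x _ => jj_le_cc x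
  have hat : Nat.card A = t * w + 1 := by
    have := hA.one_lt_card
    omega
  have key : ∀ K₀ : Subgroup G, K₀ ≤ A → K₀ ≠ ⊥ →
      (∀ g ∈ Subgroup.normalizer (A : Set G), ∀ u ∈ K₀, g * u * g⁻¹ ∈ K₀) →
      Nat.card {μ : A →* ℂˣ // ∀ k : A, (k : G) ∈ K₀ → μ k = 1} ≤ 1 ∧
        ∑ x ∈ R, jj x = ∑ x ∈ R, cc x := by
    intro K₀ hK₀ hK₀1 hn₀
    obtain ⟨e, he, hup⟩ := upper hρ hA K₀ hK₀ hK₀1 hn₀
    rw [← card_mul_relIndex, ← hIc, ← ht] at he
    rw [← ht, hat] at hup
    have h5 : (invs G).card = e * Nat.card A + t := by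
      refine Nat.eq_of_mul_eq_mul_right (Nat.card_pos (α := A)) ?_
      rw [← he]
      ring
    have h6 : (invs G).card ^ 2 = e * Nat.card G + (invs G).card * t := by
      rw [← hIc, sq]
      conv_lhs => rhs; rw [h5]
      ring
    haveI := finite_chars hA.comm'
    have h7 : 0 < Nat.card {μ : A →* ℂˣ // ∀ k : A, (k : G) ∈ K₀ → μ k = 1} :=
      Nat.card_pos_iff.2 ⟨⟨⟨1, fun _ _ => rfl⟩⟩, inferInstance⟩
    have h8 : N ≤ 1 + e + w := by
      refine Nat.le_of_mul_le_mul_right ?_ hto.pos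
      nlinarith
    have h9 := Nat.mul_le_mul_right (Nat.card G) h8
    have h10 : (1 + e + w) * Nat.card G ≤ N * Nat.card G := by nlinarith
    have h11 := Nat.le_of_mul_le_mul_right h10 Nat.card_pos
    have h12 := Nat.mul_le_mul_right t h11
    exact ⟨by nlinarith, by nlinarith⟩
  have hsq : ∀ k ∈ A, k * k = 1 := by
    by_contra hcon
    push Not at hcon
    obtain ⟨k₀, hk₀, hk₀'⟩ := hcon
    let K₀ : Subgroup G :=
      { carrier := {x | ∃ k ∈ A, k * k = x}
        one_mem' := ⟨1, A.one_mem, one_mul 1⟩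
        mul_mem' := by
          rintro _ _ ⟨k, hk, rfl⟩ ⟨l, hl, rfl⟩
          exact ⟨k * l, A.mul_mem hk hl, by
            rw [mul_assoc, ← mul_assoc l, hA.comm l hl k hk]; simp only [mul_assoc]⟩
        inv_mem' := by
          rintro _ ⟨k, hk, rfl⟩
          exact ⟨k⁻¹, A.inv_mem hk, by group⟩ }
    have h5 := (key K₀ (by
      rintro _ ⟨k, hk, rfl⟩
      exact A.mul_mem hk hk) (fun h => hk₀' (by
        have : k₀ * k₀ ∈ K₀ := ⟨k₀, hk₀, rfl⟩
        rwa [h] at this)) (by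
      rintro g hg _ ⟨k, hk, rfl⟩
      exact ⟨g * k * g⁻¹, (Subgroup.mem_normalizer_iff.1 hg k).1 hk, by group⟩)).1
    haveI := finite_chars hA.comm'
    haveI : Fact (Nat.Prime 2) := ⟨Nat.prime_two⟩
    obtain ⟨μ, hμ⟩ := exists_prime_orderOf_dvd_card' (G := A →* ℂˣ) 2
      (by rw [card_chars hA.comm']; exact even_iff_two_dvd.1 hev)
    have h6 := Finite.card_le_one_iff_subsingleton.1 h5
    have h7 := h6.elim ⟨μ, by
      rintro ⟨_, hk'⟩ ⟨k, hk, rfl⟩
      have := DFunLike.congr_fun (mul_self_of_orderOf_eq_two hμ) ⟨k, hk⟩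
      rw [MonoidHom.mul_apply, ← map_mul] at this
      exact this⟩ ⟨1, fun _ _ => rfl⟩
    exact ne_one_of_orderOf_eq_two hμ (congrArg Subtype.val h7)
  have hX : conjs A = invs G := Finset.Subset.antisymm (fun x hx => by
    obtain ⟨y, a, ha, ha1, rfl⟩ := mem_conjs.1 hx
    exact (conj_mem_invs y).2 (mem_invs.2 ⟨hsq a ha, ha1⟩)) hI
  refine ⟨hsq, hX, ?_, fun x hx1 hx2 => ?_⟩
  · rw [hX, mul_comm, hIc] at hw'
    have : w = 1 := (Nat.eq_of_mul_eq_mul_left Nat.card_pos (hw'.symm.trans (mul_one _).symm))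
    rw [hat, this, mul_one]
  · refine (Finset.sum_eq_sum_iff_of_le fun x _ => jj_le_cc x).1 (key A le_rfl hA.ne_bot
      fun g hg k hk => (Subgroup.mem_normalizer_iff.1 hg k).1 hk).2 x ?_
    simp [R, hx1, hx2, hX]

end Cfsg.Agent.H4.CAEven
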