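import Cfsg.Agent.H4.FeitLow
import Cfsg.Agent.H4.Basic

/-! Groups without subgroups of index two; involutions with small centralisers. -/

set_option autoImplicit false

namespace Cfsg.Agent.H4.NoTwo

open Cfsg.Agent.H4.FeitLow

variable {H : Type*} [Group H]

theorem index_ker_sign (φ : H →* ℤˣ) {x : H} (hx : φ x ≠ 1) : φ.ker.index = 2 := by
  rw [Subgroup.index_eq_two_iff]
  refine ⟨x, fun y => ?_⟩
  rw [MonoidHom.mem_ker, MonoidHom.mem_ker, map_mul, (Int.units_eq_one_or (φ x)).resolve_left hx]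
  rcases Int.units_eq_one_or (φ y) with h | h <;> simp [h]

theorem eq_top_of_index_dvd (hno : ∀ M : Subgroup H, M.index ≠ 2) {M : Subgroup H}
    (h : M.index ∣ 2) : M = ⊤ :=
  Subgroup.index_eq_one.1 (((Nat.dvd_prime Nat.prime_two).1 h).resolve_right (hno M))

theorem eq_top_of_card [Finite H] (hno : ∀ M : Subgroup H, M.index ≠ 2) {M : Subgroup H}
    (h : Nat.card H ≤ 2 * Nat.card M) : M = ⊤ := by
  have h1 := M.index_mul_card
  have h2 := M.index_ne_zero_of_finite
  have h3 := hno M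
  have h4 : 0 < Nat.card M := Nat.card_pos
  rw [← Subgroup.index_eq_one]
  by_contra h5
  have : 3 * Nat.card M ≤ M.index * Nat.card M := Nat.mul_le_mul_right _ (by omega)
  omega

theorem index_centralizer_dvd {x y : H} (h : ∀ g : H, g * x * g⁻¹ = x ∨ g * x * g⁻¹ = y) :
    (Subgroup.centralizer {x}).index ∣ 2 := by
  rw [Subgroup.index_dvd_two_iff']
  by_cases h1 : ∀ g : H, g * x * g⁻¹ = x
  · exact ⟨1, fun b => Or.inr (Subgroup.mem_centralizer_singleton_iff.2
      (mul_inv_eq_iff_eq_mul.1 (h1 b)))⟩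
  push Not at h1
  obtain ⟨g, hg⟩ := h1
  refine ⟨g⁻¹, fun b => ?_⟩
  rw [Subgroup.mem_centralizer_singleton_iff, Subgroup.mem_centralizer_singleton_iff]
  rcases h b with h2 | h2
  · exact Or.inr (mul_inv_eq_iff_eq_mul.1 h2)
  · left
    have h3 := ((h g).resolve_left hg).trans h2.symm
    calc g⁻¹ * b * x = g⁻¹ * (b * x * b⁻¹) * b := by group
      _ = _ := by rw [← h3]; group

theorem central_of_class (hno : ∀ M : Subgroup H, M.index ≠ 2) {x y : H}
    (h : ∀ g : H, g * x * g⁻¹ = x ∨ g * x * g⁻¹ = y) (g : H) : g * x = x * g := by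
  have := eq_top_of_index_dvd hno (index_centralizer_dvd h)
  exact Subgroup.mem_centralizer_singleton_iff.1 (this ▸ Subgroup.mem_top g)

theorem normal_of_index_three [Finite H] (hno : ∀ M : Subgroup H, M.index ≠ 2) {T : Subgroup H}
    (hT : T.index = 3) : T.Normal := by
  classical
  haveI := Fintype.ofFinite (H ⧸ T)
  have hc : Nat.card (H ⧸ T) = 3 := hT
  haveI : Nontrivial (H ⧸ T) := Finite.one_lt_card_iff_nontrivial.1 (by omega)
  let φ := MulAction.toPermHom H (H ⧸ T)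
  have h1 : φ.range ≤ alternatingGroup (H ⧸ T) := by
    rintro _ ⟨x, rfl⟩
    by_contra hx
    exact hno _ (index_ker_sign (Equiv.Perm.sign.comp φ) hx)
  have h2 := Subgroup.card_le_of_le h1
  rw [nat_card_alternatingGroup, hc, ← Subgroup.index_ker, ← Subgroup.normalCore_eq_ker] at h2
  have h3 := Subgroup.relIndex_mul_index T.normalCore_le
  have h4 := T.normalCore.index_ne_zero_of_finite
  have h5 : T.normalCore.relIndex T = 1 := by
    rw [hT] at h3
    have : Nat.factorial 3 / 2 = 3 := rfl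
    omega
  rw [Subgroup.relIndex_eq_one] at h5
  rw [← le_antisymm T.normalCore_le h5]
  infer_instance

theorem exists_index_two_of_cyclic [Finite H] (hev : Even (Nat.card H)) (P : Sylow 2 H)
    (hP : IsCyclic P) : ∃ M : Subgroup H, M.index = 2 := by
  have hp : (Nat.card H).minFac = 2 := (Nat.minFac_eq_two_iff _).2 (even_iff_two_dvd.1 hev)
  have h1 := hP.isComplement' hp
  set N := (MonoidHom.transferSylow P (hP.normalizer_le_centralizer hp)).ker
  have h2 : N.index = Nat.card P := h1.symm.index_eq_card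
  obtain ⟨m, hm⟩ := (IsPGroup.iff_card (p := 2)).1 P.isPGroup'
  have hm0 : m ≠ 0 := by
    rintro rfl
    exact P.ne_bot_of_dvd_card (even_iff_two_dvd.1 hev) (Subgroup.card_eq_one.1 hm)
  obtain ⟨m, rfl⟩ := Nat.exists_eq_succ_of_ne_zero hm0
  have h3 : Nat.card (H ⧸ N) = 2 ^ (m + 1) := h2.trans hm
  obtain ⟨M, hM⟩ := Sylow.exists_subgroup_card_pow_prime (G := H ⧸ N) 2 (n := m)
    (by rw [h3]; exact pow_dvd_pow 2 (Nat.le_succ m))
  refine ⟨M.comap (QuotientGroup.mk' N), ?_⟩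
  rw [Subgroup.index_comap_of_surjective _ (QuotientGroup.mk'_surjective N)]
  have h4 := M.index_mul_card
  rw [hM, h3, pow_succ'] at h4
  exact Nat.eq_of_mul_eq_mul_right (by positivity) h4

theorem exists_invariant_index_two (σ : H →* H) (hσ : ∀ x, σ (σ x) = x) {M : Subgroup H}
    (hM : M.index = 2) : ∃ N : Subgroup H, N.index = 2 ∧ ∀ x ∈ N, σ x ∈ N := by
  by_cases h : ∀ x, x ∈ M ↔ σ x ∈ M
  · exact ⟨M, hM, fun x hx => (h x).1 hx⟩
  push Not at h
  obtain ⟨a, ha⟩ := h
  have hm := fun x y => Subgroup.mul_mem_iff_of_index_two hM (a := x) (b := y)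
  let N : Subgroup H :=
    { carrier := {x | x ∈ M ↔ σ x ∈ M}
      one_mem' := by simp
      mul_mem' := fun {x y} hx hy => by
        simp only [Set.mem_setOf_eq, map_mul, hm] at hx hy ⊢
        tauto
      inv_mem' := fun {x} hx => by simpa using hx }
  refine ⟨N, ?_, fun x hx => ?_⟩
  · rw [Subgroup.index_eq_two_iff]
    refine ⟨a, fun b => ?_⟩
    change Xor (b * a ∈ M ↔ σ (b * a) ∈ M) (b ∈ M ↔ σ b ∈ M)
    rw [map_mul, hm, hm]
    unfold Xor
    tauto
  · change σ x ∈ M ↔ σ (σ x) ∈ M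
    rw [hσ]
    exact Iff.symm hx

/-- The dihedral argument. -/
theorem commute_of_small {Y : Type*} [Group Y] [Finite Y] {H : Subgroup Y} (hH : H.index = 2)
    {s k : Y} (hs : s ∉ H) (hss : s * s = 1) (hk : k ∈ H) (hk1 : k ≠ 1)
    (hks : k * s = s * k) (hC : ∀ h ∈ H, h * s = s * h → h = 1 ∨ h = k) (hsk : IsConj s (s * k))
    {t : Y} (ht : t ∈ H) (htt : t * t = 1) : t * k = k * t := by
  haveI := Subgroup.normal_of_index_eq_two hH
  have hm := fun x y => Subgroup.mul_mem_iff_of_index_two hH (a := x) (b := y)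
  have hu : t * s ∉ H := by rw [hm]; tauto
  have hev : Even (orderOf (t * s)) := by
    by_contra h
    obtain ⟨m, hm'⟩ := Nat.not_even_iff_odd.1 h
    have h1 := pow_orderOf_eq_one (t * s)
    rw [hm', pow_succ, pow_mul] at h1
    apply hu
    rw [eq_inv_of_mul_eq_one_right h1]
    exact H.inv_mem (H.pow_mem (Subgroup.sq_mem_of_index_two hH _) m)
  obtain ⟨n, hw2, hw1⟩ := Basic.exists_involution_pow hev
  have hsi : s⁻¹ = s := inv_eq_of_mul_eq_one_right hss
  have hti : t⁻¹ = t := inv_eq_of_mul_eq_one_right htt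
  have hws : (t * s) ^ n * s = s * (t * s) ^ n := by
    have h1 : s * (t * s) * s⁻¹ = (t * s)⁻¹ := by
      rw [mul_inv_rev, hti, hsi, mul_assoc, mul_assoc, hss, mul_one]
    have h2 : s * (t * s) ^ n * s⁻¹ = ((t * s) ^ n)⁻¹ := by rw [← conj_pow, h1, inv_pow]
    rw [← eq_inv_of_mul_eq_one_left hw2] at h2
    exact (mul_inv_eq_iff_eq_mul.1 h2).symm
  have hwt : (t * s) ^ n * t = t * (t * s) ^ n := by
    have h1 : t * (t * s) * t⁻¹ = (t * s)⁻¹ := by
      rw [mul_inv_rev, hti, hsi, ← mul_assoc, htt, one_mul]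
    have h2 : t * (t * s) ^ n * t⁻¹ = ((t * s) ^ n)⁻¹ := by rw [← conj_pow, h1, inv_pow]
    rw [← eq_inv_of_mul_eq_one_left hw2] at h2
    exact (mul_inv_eq_iff_eq_mul.1 h2).symm
  generalize (t * s) ^ n = w at hw1 hw2 hws hwt
  by_cases hw : w ∈ H
  · rw [← (hC w hw hws).resolve_left hw1, hwt]
  have fin : t = 1 ∨ t = k → t * k = k * t := by
    rintro (rfl | rfl) <;> simp
  rcases hC (w * s) (by rw [hm]; tauto) (by rw [← mul_assoc, hws]) with h | h
  · rw [mul_eq_one_iff_eq_inv, hsi] at h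
    exact fin (hC t ht (h ▸ hwt.symm))
  · have hwk : w = s * k := by rw [← hks, ← h, mul_assoc, hss, mul_one]
    obtain ⟨g, hg⟩ := isConj_iff.1 hsk
    have key : ∀ y ∈ H, y * w = w * y → y = 1 ∨ y = g * k * g⁻¹ := by
      intro y hy hyw
      rcases hC (g⁻¹ * y * g) (Subgroup.Normal.conj_mem' inferInstance y hy g) (by
        rw [hwk, ← hg] at hyw
        calc g⁻¹ * y * g * s = g⁻¹ * (y * (g * s * g⁻¹)) * g := by group
          _ = _ := by rw [hyw]; group) with h | h
      · left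
        calc y = g * (g⁻¹ * y * g) * g⁻¹ := by group
          _ = 1 := by rw [h]; simp
      · right
        rw [← h]
        group
    have h1 := (key k hk (by rw [hwk, ← mul_assoc, hks])).resolve_left hk1
    rw [← h1] at key
    exact fin (key t ht hwt.symm)

theorem class_structure {Y : Type*} [Group Y] [Finite Y] {H : Subgroup Y} (hH : H.index = 2)
    {s k : Y} (hs : s ∉ H) (hss : s * s = 1) (hk : k ∈ H) (hk1 : k ≠ 1) (hkk : k * k = 1)
    (hks : k * s = s * k) (hC : ∀ h ∈ H, h * s = s * h → h = 1 ∨ h = k) (hsk : IsConj s (s * k))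
    (hno : ∀ M : Subgroup H, M.index ≠ 2) {x : Y} (hx : x ∈ H) (hd : x * k * x⁻¹ ≠ k) :
    (∀ y, y * k * y⁻¹ = k ∨ y * k * y⁻¹ = x * k * x⁻¹ ∨ y * k * y⁻¹ = x * k * x⁻¹ * k) ∧
      (Subgroup.centralizer {(⟨k, hk⟩ : H)}).index = 3 ∧
      ∀ t ∈ H, t * k = k * t → t * (x * k * x⁻¹) = x * k * x⁻¹ * t := by
  haveI hHn := Subgroup.normal_of_index_eq_two hH
  have hsi : s⁻¹ = s := inv_eq_of_mul_eq_one_right hss
  have hsq : ∀ y, y * k * y⁻¹ * (y * k * y⁻¹) = 1 := by
    intro y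
    rw [show y * k * y⁻¹ * (y * k * y⁻¹) = y * (k * k) * y⁻¹ by group, hkk]
    simp
  have hne : ∀ y, y * k * y⁻¹ ≠ 1 := fun y => by simpa using hk1
  have hmem : ∀ y, y * k * y⁻¹ ∈ H := hHn.conj_mem k hk
  have hcc : ∀ y w, y * k * y⁻¹ * (w * k * w⁻¹) = w * k * w⁻¹ * (y * k * y⁻¹) := by
    intro y w
    have := commute_of_small hH hs hss hk hk1 hks hC hsk (hmem (w⁻¹ * y)) (hsq _)
    calc y * k * y⁻¹ * (w * k * w⁻¹) = w * (w⁻¹ * y * k * (w⁻¹ * y)⁻¹ * k) * w⁻¹ := by group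
      _ = _ := by rw [this]; group
  have hC' : ∀ h ∈ H, s * h * s⁻¹ = h → h = 1 ∨ h = k :=
    fun h hh e => hC h hh (mul_inv_eq_iff_eq_mul.1 e).symm
  have hsig : ∀ y, y * k * y⁻¹ ≠ k → s * (y * k * y⁻¹) * s⁻¹ = y * k * y⁻¹ * k := by
    intro y hy
    have h1 := hsq y
    have h2 := hcc y (s * y)
    have h3 : s * y * k * (s * y)⁻¹ = s * (y * k * y⁻¹) * s⁻¹ := by group
    have h6 := hmem y
    have h7 := hne y
    rw [h3] at h2
    generalize y * k * y⁻¹ = d at *
    rcases hC' _ (H.mul_mem h6 (hHn.conj_mem d h6 s)) (by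
      rw [h2]
      calc s * (s * d * s⁻¹ * d) * s⁻¹ = (s * s) * d * (s⁻¹ * d * s⁻¹) := by group
        _ = d * (s * d * s⁻¹) := by rw [hss, one_mul, hsi]
        _ = _ := h2) with h | h
    · exact absurd ((hC' d h6 (by
        rw [eq_inv_of_mul_eq_one_right h, inv_eq_of_mul_eq_one_right h1])).resolve_left h7) hy
    · rw [← h, ← mul_assoc, h1, one_mul]
  have hall : ∀ y, y * k * y⁻¹ = k ∨ y * k * y⁻¹ = x * k * x⁻¹ ∨
      y * k * y⁻¹ = x * k * x⁻¹ * k := by
    intro y
    by_cases hy : y * k * y⁻¹ = k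
    · exact Or.inl hy
    right
    have h1 := hsig x hd
    have h2 := hsig y hy
    have h3 := hcc y 1
    have h4 := hsq x
    have h5 := H.mul_mem (hmem x) (hmem y)
    simp only [one_mul, inv_one, mul_one] at h3
    generalize y * k * y⁻¹ = e at *
    generalize x * k * x⁻¹ = d at *
    rcases hC' _ h5 (by
      calc s * (d * e) * s⁻¹ = (s * d * s⁻¹) * (s * e * s⁻¹) := by group
        _ = d * (k * e) * k := by rw [h1, h2]; group
        _ = _ := by rw [← h3, mul_assoc, mul_assoc, hkk, mul_one]) with h | h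
    · left
      rw [eq_inv_of_mul_eq_one_right h, inv_eq_of_mul_eq_one_right h4]
    · right
      rw [← h, ← mul_assoc, h4, one_mul]
  have hidx : (Subgroup.centralizer {(⟨k, hk⟩ : H)}).index = 3 := by
    have h1 := class_mul_cc (⟨k, hk⟩ : H)
    have h2 := (Subgroup.centralizer {(⟨k, hk⟩ : H)}).index_mul_card
    have h3 : {y | IsConj (⟨k, hk⟩ : H) y}.ncard = 3 := by
      rw [Set.ncard_eq_three]
      refine ⟨⟨k, hk⟩, ⟨_, hmem x⟩, ⟨_, H.mul_mem (hmem x) hk⟩, fun e => hd ?_, fun e => ?_,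
        fun e => ?_, ?_⟩
      · exact (congrArg Subtype.val e).symm
      · exact hne x (by simpa using congrArg Subtype.val e)
      · exact hk1 (by simpa using congrArg Subtype.val e)
      · ext y
        simp only [Set.mem_setOf_eq, isConj_iff, Set.mem_insert_iff, Set.mem_singleton_iff]
        constructor
        · rintro ⟨g, rfl⟩
          exact (hall g).imp Subtype.ext (Or.imp Subtype.ext Subtype.ext)
        · rintro (rfl | rfl | rfl)
          · exact ⟨1, by simp⟩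
          · exact ⟨⟨x, hx⟩, rfl⟩
          · refine ⟨⟨_, hHn.conj_mem x hx s⟩, Subtype.ext ?_⟩
            change s * x * s⁻¹ * k * (s * x * s⁻¹)⁻¹ = x * k * x⁻¹ * k
            rw [← hsig x hd]
            calc s * x * s⁻¹ * k * (s * x * s⁻¹)⁻¹ = s * x * s⁻¹ * (k * s) * x⁻¹ * s⁻¹ := by group
              _ = _ := by rw [hks]; group
    rw [h3, ← h2] at h1
    exact (Nat.eq_of_mul_eq_mul_right Nat.card_pos h1).symm
  refine ⟨hall, hidx, fun t ht htk => ?_⟩
  have h1 := (normal_of_index_three hno hidx).conj_mem' ⟨t, ht⟩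
    (Subgroup.mem_centralizer_singleton_iff.2 (Subtype.ext htk)) ⟨x, hx⟩
  have h2 : x⁻¹ * t * x * k = k * (x⁻¹ * t * x) :=
    congrArg Subtype.val (Subgroup.mem_centralizer_singleton_iff.1 h1)
  calc t * (x * k * x⁻¹) = x * (x⁻¹ * t * x * k) * x⁻¹ := by group
    _ = _ := by rw [h2]; group

section Quot

variable {X : Type*} [Group X] [Finite X] {H : Subgroup X} {s z : X}

theorem card_le_J (hC : ∀ h ∈ H, h * s = s * h → h = 1 ∨ h = z) (A : Subgroup X) (hA : A ≤ H) :
    Nat.card A ≤ 2 * ((fun h => h * s * h⁻¹ * s⁻¹) '' (A : Set X)).ncard := by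
  classical
  haveI := Fintype.ofFinite X
  have := Finset.card_le_mul_card_image (f := fun h => h * s * h⁻¹ * s⁻¹)
    (Finset.univ.filter fun h => h ∈ A) 2 (by
      intro j hj
      obtain ⟨h, hh, rfl⟩ := Finset.mem_image.1 hj
      refine le_trans (Finset.card_le_card (t := {h, h * z}) fun g hg => ?_) Finset.card_le_two
      simp only [Finset.mem_filter, Finset.mem_univ, true_and] at hh hg
      rcases hC (h⁻¹ * g) (hA (A.mul_mem (A.inv_mem hh) hg.1)) (by
        have h1 := mul_right_cancel hg.2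
        calc h⁻¹ * g * s = h⁻¹ * (g * s * g⁻¹) * g := by group
          _ = _ := by rw [h1]; group) with h1 | h1
      · simp [← inv_mul_eq_one.1 h1]
      · simp [← h1])
  rw [Nat.card_eq_fintype_card, Fintype.card_subtype, ← Set.ncard_coe_finset (Finset.image _ _),
    Finset.coe_image] at *
  convert this
  ext
  simp

theorem le_of_J (hC : ∀ h ∈ H, h * s = s * h → h = 1 ∨ h = z)
    (hno : ∀ M : Subgroup H, M.index ≠ 2) (hn : ∀ h ∈ H, s * h * s⁻¹ ∈ H) (M : Subgroup X)
    (hM : ∀ h ∈ H, h * s * h⁻¹ * s⁻¹ ∈ M) : H ≤ M := by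
  rw [← Subgroup.subgroupOf_eq_top]
  refine eq_top_of_card hno ((card_le_J hC H le_rfl).trans (Nat.mul_le_mul_left _ ?_))
  rw [← Subgroup.inf_subgroupOf_right,
    Nat.card_congr (Subgroup.subgroupOfEquivOfLe inf_le_right).toEquiv, ← Nat.card_coe_set_eq,
    Nat.card_coe_set_eq, ← SetLike.coe_sort_coe, Nat.card_coe_set_eq]
  refine Set.ncard_le_ncard ?_
  rintro _ ⟨h, hh, rfl⟩
  refine ⟨hM h hh, ?_⟩
  have := H.mul_mem hh (hn _ (H.inv_mem hh))
  simpa [mul_assoc] using this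

theorem inverted_of (hC : ∀ h ∈ H, h * s = s * h → h = 1 ∨ h = z) (hss : s * s = 1)
    (hzz : z * z = 1) (hzc : ∀ x, x * z = z * x) (A : Subgroup X) (hA : A ≤ H) (hz : z ∈ A)
    (hn : ∀ h ∈ A, s * h * s⁻¹ ∈ A) (hk : ∀ h ∈ A, s * h * s⁻¹ ≠ z * h) :
    ∀ h ∈ A, s * h * s⁻¹ = h⁻¹ := by
  have h1 := card_le_J hC A hA
  set J := (fun h => h * s * h⁻¹ * s⁻¹) '' (A : Set X) with hJ
  have hsi : s⁻¹ = s := inv_eq_of_mul_eq_one_right hss
  have hzi : z⁻¹ = z := inv_eq_of_mul_eq_one_right hzz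
  have hJA : J ⊆ A := by
    rintro _ ⟨h, hh, rfl⟩
    have := A.mul_mem hh (hn _ (A.inv_mem hh))
    simpa [mul_assoc] using this
  have hJi : ∀ j ∈ J, s * j * s⁻¹ = j⁻¹ := by
    rintro _ ⟨h, hh, rfl⟩
    simp only [mul_inv_rev, inv_inv, hsi, mul_assoc, hss, mul_one]
  have hdisj : Disjoint J ((fun j => z * j) '' J) := by
    rw [Set.disjoint_left]
    rintro _ ⟨h, hh, rfl⟩ ⟨_, ⟨g, hg, rfl⟩, e⟩
    refine hk (h⁻¹ * g) (A.mul_mem (A.inv_mem hh) hg) ?_
    simp only at e
    calc s * (h⁻¹ * g) * s⁻¹ = h⁻¹ * (h * s * h⁻¹ * s⁻¹) * (g * s * g⁻¹ * s⁻¹)⁻¹ * g := by group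
      _ = h⁻¹ * z * g := by rw [← e]; group
      _ = _ := by rw [hzc, mul_assoc]
  have h2 : J ∪ (fun j => z * j) '' J = A := by
    refine Set.eq_of_subset_of_ncard_le (Set.union_subset hJA ?_) ?_
    · rintro _ ⟨j, hj, rfl⟩
      exact A.mul_mem hz (hJA hj)
    · rw [Set.ncard_union_eq hdisj, Set.ncard_image_of_injective _ (mul_right_injective z),
        ← Nat.card_coe_set_eq]
      simp only [SetLike.coe_sort_coe]
      omega
  intro h hh
  have : h ∈ J ∪ (fun j => z * j) '' J := h2 ▸ hh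
  rcases this with h3 | ⟨j, hj, rfl⟩
  · exact hJi h h3
  · simp only
    rw [← mul_assoc, hzc s, mul_assoc z, mul_assoc z, hJi j hj, mul_inv_rev, hzi, hzc]

theorem structure_of_small (hH : H.index = 2) (hs : s ∉ H) (hss : s * s = 1) (hz : z ∈ H)
    (hz1 : z ≠ 1) (hzz : z * z = 1) (huniq : ∀ t ∈ H, t * t = 1 → t = 1 ∨ t = z)
    (hC : ∀ h ∈ H, h * s = s * h → h = 1 ∨ h = z) (hno : ∀ M : Subgroup H, M.index ≠ 2)
    {k : X} (hk : k ∈ H) (hks : s * k * s⁻¹ = z * k) (hsk : IsConj s (s * k)) :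
    (∀ h ∈ H, h * k = k * h) ∨ ((∃ u ∈ H, ∃ v ∈ H, u * v ≠ v * u) ∧
      (Subgroup.center H).index ≤ 12 ∧ 3 ∣ (Subgroup.center H).index) := by
  haveI hHn := Subgroup.normal_of_index_eq_two hH
  have hm := fun x y => Subgroup.mul_mem_iff_of_index_two hH (a := x) (b := y)
  have hzc : ∀ x, x * z = z * x := by
    intro x
    rcases huniq (x * z * x⁻¹) (hHn.conj_mem z hz x) (by
      calc x * z * x⁻¹ * (x * z * x⁻¹) = x * (z * z) * x⁻¹ := by group
        _ = 1 := by rw [hzz]; simp) with h | h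
    · exact absurd (by simpa using h) hz1
    · exact mul_inv_eq_iff_eq_mul.1 h
  have hzi : z⁻¹ = z := inv_eq_of_mul_eq_one_right hzz
  have hk1 : k ≠ 1 ∧ k ≠ z := by
    constructor
    · rintro rfl
      exact hz1 (by simpa using hks.symm)
    · rintro rfl
      rw [hzc s, mul_inv_cancel_right, hzz] at hks
      exact hz1 hks
  have hkk : k * k = z := by
    refine (hC _ (H.mul_mem hk hk) ?_).resolve_left fun h => ?_
    · symm
      rw [← mul_inv_eq_iff_eq_mul]
      calc s * (k * k) * s⁻¹ = (s * k * s⁻¹) * (s * k * s⁻¹) := by group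
        _ = (z * z) * (k * k) := by rw [hks, mul_assoc, ← mul_assoc k, hzc k]; group
        _ = _ := by rw [hzz, one_mul]
    · rcases huniq k hk h with h1 | h1
      · exact hk1.1 h1
      · exact hk1.2 h1
  have hk2 : ∀ h ∈ H, s * h * s⁻¹ = z * h → h = k ∨ h = k * z := by
    intro h hh e
    rcases hC (k⁻¹ * h) (H.mul_mem (H.inv_mem hk) hh) (by
      symm
      rw [← mul_inv_eq_iff_eq_mul]
      calc s * (k⁻¹ * h) * s⁻¹ = (s * k * s⁻¹)⁻¹ * (s * h * s⁻¹) := by group
        _ = _ := by rw [hks, e]; group) with h1 | h1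
    · exact Or.inl (inv_mul_eq_one.1 h1).symm
    · exact Or.inr (by rw [← h1]; simp)
  haveI : (Subgroup.zpowers z).Normal := ⟨by
    rintro _ ⟨n, rfl⟩ g
    refine ⟨n, ?_⟩
    simp only
    rw [← conj_zpow, hzc g, mul_inv_cancel_right]⟩
  let π := QuotientGroup.mk' (Subgroup.zpowers z)
  have hπz : π z = 1 := (QuotientGroup.eq_one_iff z).2 (Subgroup.mem_zpowers z)
  have hker : π.ker ≤ H := by
    rw [QuotientGroup.ker_mk', Subgroup.zpowers_le]
    exact hz
  have hπ : ∀ x y, π x = π y → x = y ∨ x = y * z := by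
    intro x y e
    have h1 : y⁻¹ * x ∈ Subgroup.zpowers z := QuotientGroup.eq.1 e.symm
    have h2 : y⁻¹ * x ∈ H := Subgroup.zpowers_le.2 hz h1
    obtain ⟨n, hn⟩ := h1
    rcases huniq _ h2 (by
      rw [← hn]
      simp only
      rw [← (Commute.refl z).mul_zpow, hzz, one_zpow]) with h | h
    · exact Or.inl (inv_mul_eq_one.1 h).symm
    · exact Or.inr (by rw [← h]; simp)
  have hHq : (H.map π).index = 2 := by
    rw [Subgroup.index_map_eq _ (QuotientGroup.mk'_surjective _) hker, hH]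
  have hmem : ∀ x, π x ∈ H.map π ↔ x ∈ H := fun x => by
    rw [← Subgroup.mem_comap, Subgroup.comap_map_eq_self hker]
  have hkq1 : π k ≠ 1 := by
    intro e
    rcases hπ k 1 (by simpa using e) with h | h
    · exact hk1.1 h
    · exact hk1.2 (by simpa using h)
  have hkqs : π k * π s = π s * π k := by
    have := congrArg π hks
    rw [map_mul, map_mul, map_mul, hπz, one_mul, map_inv, mul_inv_eq_iff_eq_mul] at this
    exact this.symm
  have hCq : ∀ h ∈ H.map π, h * π s = π s * h → h = 1 ∨ h = π k := by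
    rintro _ ⟨h, hh, rfl⟩ e
    rcases hπ (s * h) (h * s) (by rw [map_mul, map_mul, e]) with h1 | h1
    · rcases hC h hh h1.symm with rfl | rfl
      · simp
      · exact Or.inl hπz
    · rcases hk2 h hh (by rw [h1, hzc]; group) with rfl | rfl
      · exact Or.inr rfl
      · exact Or.inr (by rw [map_mul, hπz, mul_one])
  have hkqq : π k * π k = 1 := by rw [← map_mul, hkk, hπz]
  by_cases hall : ∀ x ∈ H, π (x * k * x⁻¹) = π k
  · left
    intro h hh
    exact congrArg Subtype.val (central_of_class hno (x := ⟨k, hk⟩)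
      (y := ⟨k * z, H.mul_mem hk hz⟩)
      (fun g => (hπ _ _ (hall g g.2)).imp Subtype.ext Subtype.ext) ⟨h, hh⟩)
  right
  push Not at hall
  obtain ⟨x, hx, hd⟩ := hall
  let π' := π.subgroupMap H
  have hπ' : Function.Surjective π' := π.subgroupMap_surjective H
  obtain ⟨hcl, hidx, hcent⟩ := class_structure hHq (by rwa [hmem])
    (by rw [← map_mul, hss, map_one]) ((hmem k).2 hk) hkq1 hkqq hkqs hCq
    (by rw [← map_mul]; exact π.map_isConj hsk)
    (fun M hM => hno (M.comap π') (by rw [Subgroup.index_comap_of_surjective _ hπ', hM]))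
    ((hmem x).2 hx) (by simpa using hd)
  simp only [← map_inv, ← map_mul] at hcl hcent
  have hk₁H : x * k * x⁻¹ ∈ H := hHn.conj_mem k hk x
  have hk₁2 : x * k * x⁻¹ * (x * k * x⁻¹) = z := by
    rw [show x * k * x⁻¹ * (x * k * x⁻¹) = x * (k * k) * x⁻¹ by group, hkk, hzc,
      mul_inv_cancel_right]
  generalize hlx : x * k * x⁻¹ = l at *
  have hkl : k * l ≠ l * k := by
    intro e
    have h1 : π k * π l = 1 := by
      rw [← map_mul]
      rcases huniq (k * l) (H.mul_mem hk hk₁H) (by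
        rw [mul_assoc, ← mul_assoc l, ← e, mul_assoc, hk₁2, ← mul_assoc, hkk, hzz]) with h | h
      · rw [h, map_one]
      · rw [h, hπz]
    apply hd
    rw [eq_inv_of_mul_eq_one_right h1, inv_eq_of_mul_eq_one_right hkqq]
  let T := (Subgroup.centralizer {(⟨π k, (hmem k).2 hk⟩ : H.map π)}).comap π'
  have hT : T.index = 3 := by rw [Subgroup.index_comap_of_surjective _ hπ', hidx]
  have hTmem : ∀ t : H, t ∈ T ↔ π t * π k = π k * π t := fun t => by
    rw [Subgroup.mem_comap, Subgroup.mem_centralizer_singleton_iff, Subtype.ext_iff]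
    rfl
  refine ⟨⟨k, hk, l, hk₁H, hkl⟩, ?_, ?_⟩
  swap
  · rw [← hT]
    refine Subgroup.index_dvd_of_le fun t ht => (hTmem t).2 ?_
    rw [← map_mul, ← map_mul]
    exact congrArg (fun y : H => π y) (Subgroup.mem_center_iff.1 ht ⟨k, hk⟩).symm
  let A : Subgroup X := H ⊓ Subgroup.centralizer {k, l}
  have hAmem : ∀ a, a ∈ A ↔ a ∈ H ∧ k * a = a * k ∧ l * a = a * l := fun a => by
    simp [A, Subgroup.mem_centralizer_iff]
  have hAconj : ∀ a ∈ A, ∀ y, y * k * y⁻¹ * a = a * (y * k * y⁻¹) := by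
    intro a ha y
    obtain ⟨-, h1, h2⟩ := (hAmem a).1 ha
    have h3 : Commute k a := h1
    have h4 : Commute l a := h2
    have h5 : Commute z a := (hzc a).symm
    have h6 := hcl (π y)
    simp only [← map_inv, ← map_mul] at h6
    rcases h6 with h | h | h <;> rcases hπ _ _ h with h | h <;> rw [h]
    exacts [h3, h3.mul_left h5, h4, h4.mul_left h5, h4.mul_left h3, (h4.mul_left h3).mul_left h5]
  have hAn : ∀ a ∈ A, ∀ y, y * a * y⁻¹ ∈ A := by
    intro a ha y
    have key : ∀ w, w * k * w⁻¹ * (y * a * y⁻¹) = y * a * y⁻¹ * (w * k * w⁻¹) := by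
      intro w
      calc w * k * w⁻¹ * (y * a * y⁻¹) = y * (y⁻¹ * w * k * (y⁻¹ * w)⁻¹ * a) * y⁻¹ := by group
        _ = _ := by rw [hAconj a ha]; group
    refine (hAmem _).2 ⟨hHn.conj_mem a ha.1 y, by simpa using key 1, ?_⟩
    rw [← hlx]
    exact key x
  have hzA : z ∈ A := (hAmem z).2 ⟨hz, hzc k, hzc l⟩
  have hAinv := inverted_of hC hss hzz hzc A inf_le_left hzA (fun h hh => hAn h hh s) (by
    intro h hh e
    have h1 := ((hAmem h).1 hh).2.2
    rcases hk2 h hh.1 e with rfl | rfl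
    · exact hkl h1.symm
    · apply hkl
      rw [mul_assoc, ← hzc l, ← mul_assoc, ← mul_assoc] at h1
      exact (mul_right_cancel h1).symm)
  have hAc : H ≤ Subgroup.centralizer A := by
    refine le_of_J hC hno (fun h hh => hHn.conj_mem h hh s) _ fun h hh => ?_
    rw [Subgroup.mem_centralizer_iff]
    intro a ha
    have h1 := hAinv _ (hAn a ha h⁻¹)
    have h2 := hAinv _ (A.inv_mem ha)
    have h3 : s⁻¹ * a * s = a⁻¹ := by
      conv_lhs => rw [← inv_inv a, ← h2]
      group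
    calc a * (h * s * h⁻¹ * s⁻¹) = h * s * h⁻¹ * (h * (s * (h⁻¹ * a * h⁻¹⁻¹) * s⁻¹) * h⁻¹) * s⁻¹ := by
          rw [inv_eq_of_mul_eq_one_right hss]
          calc a * (h * s * h⁻¹ * s) = h * (s * s) * h⁻¹ * a * (h * s * h⁻¹ * s) := by
                rw [hss]; simp
            _ = _ := by group
      _ = h * s * h⁻¹ * (s⁻¹ * a * s) * s⁻¹ := by rw [h1, h3]; group
      _ = _ := by group
  have h12 : (A.subgroupOf H).index ≤ 12 := by
    have e1 : A.subgroupOf H = Subgroup.centralizer {(⟨k, hk⟩ : H)} ⊓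
        Subgroup.centralizer {(⟨l, hk₁H⟩ : H)} := by
      ext a
      simp only [Subgroup.mem_subgroupOf, hAmem, Subgroup.mem_inf,
        Subgroup.mem_centralizer_singleton_iff, Subtype.ext_iff, Subgroup.coe_mul, a.2, true_and,
        eq_comm]
    have e2 : A.subgroupOf H ≤ T := fun a ha => (hTmem a).2 (by
      rw [← map_mul, ← map_mul, ((hAmem a).1 ha).2.1])
    have key : ∀ w : H, (∀ t ∈ T, π t * π w = π w * π t) →
        (Subgroup.centralizer {w}).relIndex T ≤ 2 := by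
      intro w hw
      refine Nat.le_of_dvd two_pos ?_
      have h1 : ∀ t ∈ T, t * w * t⁻¹ = w ∨ t * w * t⁻¹ = w * ⟨z, hz⟩ := fun t ht =>
        (hπ (t * w * t⁻¹) w (by rw [map_mul, map_mul, hw t ht]; simp)).imp Subtype.ext Subtype.ext
      rw [Subgroup.relIndex, Subgroup.index_dvd_two_iff']
      by_cases h2 : ∀ g ∈ T, g * w * g⁻¹ = w
      · exact ⟨1, fun b => Or.inr (Subgroup.mem_centralizer_singleton_iff.2
          (mul_inv_eq_iff_eq_mul.1 (h2 b b.2)))⟩
      push Not at h2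
      obtain ⟨g, hgT, hg⟩ := h2
      refine ⟨⟨g, hgT⟩⁻¹, fun b => ?_⟩
      rw [Subgroup.mem_subgroupOf, Subgroup.mem_subgroupOf, Subgroup.mem_centralizer_singleton_iff,
        Subgroup.mem_centralizer_singleton_iff]
      rcases h1 b b.2 with h3 | h3
      · exact Or.inr (mul_inv_eq_iff_eq_mul.1 h3)
      · left
        have h4 := ((h1 g hgT).resolve_left hg).trans h3.symm
        change g⁻¹ * b * w = w * (g⁻¹ * b)
        calc g⁻¹ * b * w = g⁻¹ * (b * w * (b : H)⁻¹) * b := by group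
          _ = _ := by rw [← h4]; group
    have h1 := key ⟨k, hk⟩ fun t ht => (hTmem t).1 ht
    have h2 := key ⟨l, hk₁H⟩ fun t ht => hcent _ ((hmem t).2 t.2) ((hTmem t).1 ht)
    rw [← Subgroup.relIndex_mul_index e2, hT, e1]
    have h3 := (Subgroup.relIndex_inf_le (H := Subgroup.centralizer {(⟨k, hk⟩ : H)})
      (K := Subgroup.centralizer {(⟨l, hk₁H⟩ : H)}) (L := T)).trans (Nat.mul_le_mul h1 h2)
    omega
  refine le_trans (Nat.le_of_dvd (Nat.pos_of_ne_zero Subgroup.index_ne_zero_of_finite)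
    (Subgroup.index_dvd_of_le fun a ha => ?_)) h12
  rw [Subgroup.mem_center_iff]
  intro g
  exact Subtype.ext (Subgroup.mem_centralizer_iff.1 (hAc g.2) a ha).symm

end Quot

end Cfsg.Agent.H4.NoTwo
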