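import Cfsg.Agent.H4.CAEven
import Cfsg.Agent.H4.NoTwo
import Cfsg.Agent.H4.Ident
import Cfsg.Agent.H4.Sharp

/-! Simple CA-groups of even order (Brauer, Suzuki, Wall), conclusion. -/

set_option autoImplicit false

namespace Cfsg.Agent.H4.CAEven2

open Cfsg.Agent.H4.FeitLow Cfsg.Agent.H4.CABasic Cfsg.Agent.H4.CAEven Cfsg.Agent.H5.Invol
open Cfsg.Agent.H4.Basic Cfsg.Agent.H4.Zass MulAction

theorem arith (g I X Y h b c m k : ℤ) (hg : g = 1 + I + X + Y) (hI : I * (2 * h) = g)
    (hX : 2 * b * X = g * (b - 1)) (hY : 2 * c * Y = g * (c - 1)) (hm : g = 2 * h * b * c * m)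
    (hh : 2 ≤ h) (hk : b = (2 * h - 1) * k) (hb : 0 < b) (hc : 3 ≤ c) (hg0 : 0 < g) :
    g = (2 * h + 1) * (2 * h * (2 * h - 1)) := by
  have h1 : 2 * h * b * c * (1 + b * c * m - h * m * (b + c)) = 0 := by
    have e1 : 2 * h * b * c * g = 2 * h * b * c + b * c * (I * (2 * h)) + h * c * (2 * b * X) +
      h * b * (2 * c * Y) := by
      conv_lhs => rw [hg]
      ring
    rw [hI, hX, hY] at e1
    have e2 : 2 * h * b * c + b * c * g - h * (b + c) * g = 0 := by linarith
    rw [hm] at e2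
    linarith
  have hpos : 0 < 2 * h * b * c := by positivity
  have h2 : 1 + b * c * m - h * m * (b + c) = 0 := (mul_eq_zero.1 h1).resolve_left hpos.ne'
  have hm0 : 0 < m := by
    rw [hm] at hg0
    exact (mul_pos_iff_of_pos_left hpos).1 hg0
  have hm1 : m = 1 := Int.eq_one_of_mul_eq_one_right hm0.le
    (show m * (h * (b + c) - b * c) = 1 by linarith)
  subst hm1
  have hk0 : 1 ≤ k := by
    by_contra hcon
    have : b ≤ 0 := by nlinarith
    omega
  have h3 : c - 2 = (2 * h - 1) * (2 * (c * k) - 2 * h * k - c) := by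
    rw [hk] at h2
    linarith
  have h4 : 1 ≤ 2 * (c * k) - 2 * h * k - c := by
    by_contra hcon
    nlinarith
  have h5 : 2 * h + 1 ≤ c := by nlinarith
  have h6 : 2 * h - 1 ≤ b := by nlinarith
  have h7 : (b - h) * (c - h) = (h - 1) * (h + 1) := by linarith
  have h8 : b = 2 * h - 1 := by nlinarith
  have h9 : c = 2 * h + 1 := by
    rw [h8] at h7
    have : (h - 1) * (c - (2 * h + 1)) = 0 := by linarith
    rcases mul_eq_zero.1 this with h | h <;> omega
  rw [hm, h8, h9]
  ring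

variable {G : Type*} [Group G]

theorem pgroup_le [Finite G] {A P : Subgroup G} (hA : IsCA A) {p : ℕ} [Fact p.Prime]
    (hP : IsPGroup p P) {y : G} (hy : y ∈ A) (hy1 : y ≠ 1) (hyP : y ∈ P) : P ≤ A := by
  haveI : Nontrivial P := ⟨⟨⟨y, hyP⟩, 1, fun e => hy1 (congrArg Subtype.val e)⟩⟩
  haveI := hP.center_nontrivial
  obtain ⟨z, hz⟩ := exists_ne (1 : Subgroup.center P)
  have h1 : ∀ w ∈ P, w * (z : P) = (z : P) * w := fun w hw =>
    congrArg Subtype.val (Subgroup.mem_center_iff.1 z.2 ⟨w, hw⟩)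
  have h2 := (hA.cent y hy hy1 _).1 (h1 y hyP).symm
  exact fun w hw => (hA.cent _ h2 (fun e => hz (Subtype.ext (Subtype.ext e))) w).1 (h1 w hw)

variable [Fintype G]

theorem coprime {A B : Subgroup G} (hA : IsCA A) (hB : IsCA B) (h : Disjoint (conjs A) (conjs B)) :
    (Nat.card A).Coprime (Nat.card B) := by
  refine Nat.coprime_of_dvd fun p hp h1 h2 => ?_
  haveI := Fact.mk hp
  have key : ∀ C : Subgroup G, IsCA C → p ∣ Nat.card C →
      ∃ y : G, y ≠ 1 ∧ ∃ P : Sylow p G, y ∈ P ∧ (P : Subgroup G) ≤ C := by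
    intro C hC h
    obtain ⟨y, hy⟩ := exists_prime_orderOf_dvd_card' (G := C) p h
    have hy1 : (y : G) ≠ 1 := fun e => by
      rw [show y = 1 from Subtype.ext e, orderOf_one] at hy
      exact hp.one_lt.ne hy
    obtain ⟨P, hP⟩ := IsPGroup.exists_le_sylow (P := Subgroup.zpowers (y : G)) (p := p)
      (IsPGroup.of_card (n := 1) (by rw [Nat.card_zpowers, Subgroup.orderOf_coe, hy, pow_one]))
    exact ⟨y, hy1, P, hP (Subgroup.mem_zpowers _),
      pgroup_le hC P.isPGroup' y.2 hy1 (hP (Subgroup.mem_zpowers _))⟩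
  obtain ⟨y, hy1, P, hyP, hP⟩ := key A hA h1
  obtain ⟨-, -, Q, -, hQ⟩ := key B hB h2
  obtain ⟨g, rfl⟩ := exists_smul_eq G P Q
  refine Finset.disjoint_left.1 h (mem_conjs.2 ⟨1, y, hP hyP, hy1, (by simp : y = _)⟩)
    (mem_conjs.2 ⟨g⁻¹, g * y * g⁻¹, hQ ?_, by simpa using hy1, by group⟩)
  rw [Sylow.coe_subgroup_smul]
  exact Subgroup.smul_mem_pointwise_smul y (MulAut.conj g) _ hyP

theorem self_mem_conjs {x : G} (hx : x ≠ 1) : x ∈ conjs (Subgroup.centralizer {x}) :=
  mem_conjs.2 ⟨1, x, Subgroup.mem_centralizer_singleton_iff.2 rfl, hx, by simp⟩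

theorem disjoint_of_notMem {A B : Subgroup G} (hA : IsCA A) (hB : IsCA B) {x : G}
    (hx : x ∈ conjs B) (hx' : x ∉ conjs A) : Disjoint (conjs A) (conjs B) :=
  Finset.disjoint_left.2 fun _ h1 h2 => hx' (hA.conjs_eq hB h1 h2 ▸ hx)

variable [DecidableEq G]

theorem odd_of_disjoint {B : Subgroup G} (hd : Disjoint (invs G) (conjs B)) : Odd (Nat.card B) :=
  odd_card_of_no_involution fun z hz h => by
    by_contra h1
    exact Finset.disjoint_left.1 hd (mem_invs.2 ⟨h, h1⟩) (mem_conjs.2 ⟨1, z, hz, h1, by simp⟩)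

theorem norm_two {B : Subgroup G} (hB : IsCA B) (hd : Disjoint (invs G) (conjs B))
    (hsq : ∀ v ∈ invs G, ∀ m, m * v = v * m → m * m = 1) {x : G} (hx : x ∈ B) (hx1 : x ≠ 1)
    (hj : jj x = cc x) :
    B.relIndex (Subgroup.normalizer (B : Set G)) = 2 ∧
      ∀ n ∈ Subgroup.normalizer (B : Set G), n ∈ B ∨ n * n = 1 := by
  classical
  have hodd := odd_of_disjoint hd
  have hcc : cc x = Nat.card B := by rw [cc, hB.centralizer_eq hx hx1]
  obtain ⟨v, hv⟩ := Finset.card_pos.1 (show 0 < jj x by rw [hj, hcc]; exact Nat.card_pos)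
  obtain ⟨hv1, hv2⟩ := Finset.mem_filter.1 hv
  have hvv := (mem_invs.1 hv1).1
  have hinv : ∀ w, w * x = x⁻¹ * w → v * w ∈ B := by
    intro w hw
    rw [← hB.cent x hx hx1, mul_assoc, hw, ← mul_assoc, ← mul_assoc]
    congr 1
    rw [mul_inv_eq_iff_eq_mul, mul_assoc, inverts hv1 hv2]
    simp
  have hall : ∀ k ∈ B, v * k * (v * k) = 1 := by
    let f : ((invs G).filter fun u => u * x ∈ invs G) → B := fun w =>
      ⟨v * w, hinv w (inverts (Finset.mem_filter.1 w.2).1 (Finset.mem_filter.1 w.2).2)⟩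
    have hf : Function.Injective f := fun w w' e =>
      Subtype.ext (mul_left_cancel (congrArg Subtype.val e))
    have hb := hf.bijective_of_nat_card_le (by rw [Nat.card_eq_finsetCard, ← hcc, ← hj]; rfl)
    intro k hk
    obtain ⟨w, hw⟩ := hb.2 ⟨k, hk⟩
    have : k = v * w := (congrArg Subtype.val hw).symm
    rw [this, ← mul_assoc v v, hvv, one_mul]
    exact (mem_invs.1 (Finset.mem_filter.1 w.2).1).1
  have hvk : ∀ k ∈ B, v * k = k⁻¹ * v := fun k hk => by
    rw [eq_inv_of_mul_eq_one_left (hall k hk), mul_inv_rev, inv_eq_of_mul_self hvv]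
  have hvN : v ∈ Subgroup.normalizer (B : Set G) :=
    hB.mem_norm hx hx1 (by rw [hvk x hx, mul_inv_cancel_right]; exact B.inv_mem hx)
  have hvB : v ∉ B := fun h => (mem_invs.1 hv1).2 (eq_one_of_odd_card hodd h hvv)
  have key : ∀ n ∈ Subgroup.normalizer (B : Set G), n ∈ B ∨ v * n ∈ B := by
    intro n hn
    have h1 : v * (n * v * n⁻¹) ∈ B := hinv _ (by
      have := hvk _ ((Subgroup.mem_normalizer_iff''.1 hn x).1 hx)
      calc n * v * n⁻¹ * x = n * (v * (n⁻¹ * x * n)) * n⁻¹ := by group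
        _ = _ := by rw [this]; group)
    obtain ⟨s, hs, hss⟩ : ∃ s ∈ B, s * s = v * (n * v * n⁻¹) :=
      ⟨_, B.pow_mem h1 _, root_sq_of_odd_card hodd h1⟩
    have h2 : s * n * v = v * (s * n) := by
      have h3 : n * v * n⁻¹ = v * (s * s) := by rw [hss, ← mul_assoc, hvv, one_mul]
      calc s * n * v = s * (n * v * n⁻¹) * n := by group
        _ = s * (v * s) * s * n := by rw [h3]; group
        _ = _ := by rw [hvk s hs]; group
    have h3 := hsq v hv1 _ h2
    have h4 : s * n ∈ Subgroup.normalizer (B : Set G) := mul_mem (Subgroup.le_normalizer hs) hn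
    have h5 := (Subgroup.mem_normalizer_iff.1 h4 x).1 hx
    by_cases h6 : x * (s * n * x * (s * n)⁻¹) = 1
    · right
      have h7 := hinv (s * n) (by
        rw [← mul_inv_eq_iff_eq_mul, eq_inv_of_mul_eq_one_right h6])
      rw [← mul_assoc, hvk s hs, mul_assoc] at h7
      exact (B.mul_mem_cancel_left (B.inv_mem hs)).1 h7
    · left
      refine (B.mul_mem_cancel_left hs).1 ((hB.cent _ (B.mul_mem hx h5) h6 _).1 ?_)
      rw [← mul_inv_eq_iff_eq_mul]
      conv_rhs => rw [hB.comm _ hx _ h5]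
      generalize s * n = m at h3
      calc m * (x * (m * x * m⁻¹)) * m⁻¹ = m * x * m⁻¹ * ((m * m) * x * (m * m)⁻¹) := by group
        _ = _ := by rw [h3]; group
  refine ⟨?_, fun n hn => (key n hn).imp_right fun h => ?_⟩
  · rw [Subgroup.relIndex, Subgroup.index_eq_two_iff']
    refine ⟨⟨v, hvN⟩, fun n => ?_⟩
    simp only [Subgroup.mem_subgroupOf, Subgroup.coe_mul]
    rcases key n n.2 with h | h
    · exact Or.inr ⟨h, fun h' => hvB ((B.mul_mem_cancel_right h).1 h')⟩
    · exact Or.inl ⟨h, fun h' => hvB ((B.mul_mem_cancel_right h').1 h)⟩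
  · have := hall _ h
    rwa [← mul_assoc v v, hvv, one_mul] at this

omit [DecidableEq G] in
theorem half_le {B : Subgroup G} (hB : IsCA B) (h : Subgroup.normalizer (B : Set G) ≤ B) :
    Nat.card B * (conjs B).card = Nat.card G * (Nat.card B - 1) ∧
      Nat.card G ≤ 2 * (conjs B).card := by
  have h1 := hB.card_conjs
  rw [le_antisymm h Subgroup.le_normalizer] at h1
  refine ⟨h1, Nat.le_of_mul_le_mul_left ?_ (Nat.card_pos (α := B))⟩
  obtain ⟨c, hc⟩ := Nat.exists_eq_add_of_lt hB.one_lt_card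
  rw [mul_left_comm, h1, hc]
  simp only [show 1 + c + 1 - 1 = c + 1 by omega]
  nlinarith

omit [DecidableEq G] in
theorem third_le {B : Subgroup G} (hB : IsCA B) (hodd : Odd (Nat.card B))
    (h : B.relIndex (Subgroup.normalizer (B : Set G)) = 2) :
    3 ≤ Nat.card B ∧ 2 * Nat.card B * (conjs B).card = Nat.card G * (Nat.card B - 1) ∧
      Nat.card G ≤ 3 * (conjs B).card ∧ 2 * (conjs B).card < Nat.card G := by
  have h1 := hB.card_conjs
  rw [← card_mul_relIndex, h, mul_comm _ 2] at h1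
  have h3 : 3 ≤ Nat.card B := by
    have := hB.one_lt_card
    obtain ⟨k, hk⟩ := hodd
    omega
  obtain ⟨c, hc⟩ := Nat.exists_eq_add_of_le h3
  have hg := Nat.card_pos (α := G)
  refine ⟨h3, h1, ?_, ?_⟩
  all_goals
    rw [hc] at h1
    simp only [show 3 + c - 1 = c + 2 by omega] at h1
    by_contra hcon
    nlinarith

omit [DecidableEq G] in
theorem dvd_card_cent {A : Subgroup G} (hA : IsCA A) (hCT : CT G)
    (hA2 : ∀ n ∈ Subgroup.normalizer (A : Set G), n * n = 1 → n ∈ A)
    (hn : ∀ y ∈ Subgroup.normalizer (A : Set G), y ∉ A →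
      ∀ n ∈ Subgroup.normalizer (Subgroup.centralizer {y} : Set G),
        n ∈ Subgroup.centralizer {y} ∨ n * n = 1)
    {x : G} (hx : x ∈ Subgroup.normalizer (A : Set G)) (hxA : x ∉ A) :
    A.relIndex (Subgroup.normalizer (A : Set G)) ∣ cc x := by
  classical
  set H := Subgroup.normalizer (A : Set G) with hH
  have hCT' := hCT.subgroup H
  have hne : ∀ y : H, (y : G) ∉ A → y ≠ 1 := fun y hy e => hy (by rw [e]; exact A.one_mem)
  have h1 : ∀ y : H, (y : G) ∉ A → ∀ k : G, k ∈ A → k * y = y * k → k = 1 := by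
    intro y hy k hk h
    by_contra hk1
    exact hy ((hA.cent k hk hk1 y).1 h.symm)
  have h2 : ∀ y : H, (y : G) ∉ A →
      Subgroup.normalizer (Subgroup.centralizer {y} : Set H) ≤ Subgroup.centralizer {y} := by
    intro y hy n hn'
    have h3 := (Subgroup.mem_normalizer_iff.1 hn' y).1
      (Subgroup.mem_centralizer_singleton_iff.2 rfl)
    have h4 : (n : G) * y * (n : G)⁻¹ * y = y * (n * y * (n : G)⁻¹) :=
      congrArg Subtype.val (Subgroup.mem_centralizer_singleton_iff.1 h3)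
    have hC := hCT.isCA (x := y) fun e => hne y hy (Subtype.ext e)
    rw [Subgroup.mem_centralizer_singleton_iff, Subtype.ext_iff]
    rcases hn y y.2 hy n (hC.mem_norm (Subgroup.mem_centralizer_singleton_iff.2 rfl)
      (fun e => hne y hy (Subtype.ext e)) (Subgroup.mem_centralizer_singleton_iff.2 h4)) with h | h
    · exact Subgroup.mem_centralizer_singleton_iff.1 h
    · have h5 := hA2 n n.2 h
      have h6 := h1 y hy (n * (y * (n : G)⁻¹ * (y : G)⁻¹))
        (A.mul_mem h5 ((Subgroup.mem_normalizer_iff.1 y.2 _).1 (A.inv_mem h5))) (by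
          calc (n : G) * (y * (n : G)⁻¹ * (y : G)⁻¹) * y =
              n * y * (n : G)⁻¹ * y * (y : G)⁻¹ := by group
            _ = y * (n * y * (n : G)⁻¹) * (y : G)⁻¹ := by rw [h4]
            _ = _ := by group)
      change (n : G) * y = y * n
      calc (n : G) * y = n * (y * (n : G)⁻¹ * (y : G)⁻¹) * (y * n) := by group
        _ = _ := by rw [h6, one_mul]
  have h3 : conjs (Subgroup.centralizer {(⟨x, hx⟩ : H)}) =
      Finset.univ.filter fun y : H => ¬ y ∈ A.subgroupOf H := by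
    ext y
    rw [Finset.mem_filter, Subgroup.mem_subgroupOf]
    constructor
    · intro hy
      obtain ⟨z, k, hk, hk1, rfl⟩ := mem_conjs.1 hy
      refine ⟨Finset.mem_univ _, fun h => hk1 (Subtype.ext (h1 ⟨x, hx⟩ hxA k
        ((Subgroup.mem_normalizer_iff.1 z.2 _).2 h) ?_))⟩
      exact congrArg Subtype.val (Subgroup.mem_centralizer_singleton_iff.1 hk)
    · rintro ⟨-, hy⟩
      by_contra hcon
      have hD := hCT'.isCA (hne ⟨x, hx⟩ hxA)
      have hD' := hCT'.isCA (hne y hy)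
      have h4 := Finset.card_union_of_disjoint
        (disjoint_of_notMem hD hD' (self_mem_conjs (hne y hy)) hcon)
      have h5 := (half_le hD (h2 _ hxA)).2
      have h6 := (half_le hD' (h2 _ hy)).2
      have h7 := Finset.card_lt_card (Finset.ssubset_univ_iff.2 (show
        conjs (Subgroup.centralizer {(⟨x, hx⟩ : H)}) ∪ conjs (Subgroup.centralizer {y}) ≠
          Finset.univ from fun e => by
        have := e ▸ Finset.mem_univ (1 : H)
        simp [one_notMem_conjs] at this))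
      rw [Finset.card_univ, ← Nat.card_eq_fintype_card] at h7
      omega
  have hD := hCT'.isCA (hne ⟨x, hx⟩ hxA)
  have h4 := (half_le hD (h2 _ hxA)).1
  have h5 := Finset.card_filter_add_card_filter_not (s := Finset.univ)
    (fun y : H => y ∈ A.subgroupOf H)
  rw [← h3, ← Fintype.card_subtype, Finset.card_univ, ← Nat.card_eq_fintype_card,
    ← Nat.card_eq_fintype_card,
    Nat.card_congr (Subgroup.subgroupOfEquivOfLe (Subgroup.le_normalizer (H := A))).toEquiv] at h5
  have h6 := card_mul_relIndex A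
  rw [← hH] at h6
  have h7 : A.relIndex H = Nat.card (Subgroup.centralizer {(⟨x, hx⟩ : H)}) := by
    refine Nat.eq_of_mul_eq_mul_left (Nat.card_pos (α := A)) ?_
    obtain ⟨c, hc⟩ := Nat.exists_eq_add_of_lt hD.one_lt_card
    rw [hc] at h4 ⊢
    simp only [show 1 + c + 1 - 1 = c + 1 by omega] at h4
    rw [h6]
    rw [← h5] at h4 ⊢
    nlinarith
  rw [h7]
  refine Subgroup.card_dvd_of_injective
    ((H.subtype.comp (Subgroup.subtype _)).codRestrict _ fun k => Subgroup.mem_centralizer_singleton_iff.2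
      (congrArg Subtype.val (Subgroup.mem_centralizer_singleton_iff.1 k.2))) fun k l e => ?_
  exact Subtype.ext (Subtype.ext (congrArg (fun z : Subgroup.centralizer {x} => (z : G)) e))

theorem card_eq [IsSimpleGroup G] (hna : ¬ ∀ x y : G, x * y = y * x) (hCT : CT G) {u : G}
    (hu : u ∈ invs G) {A : Subgroup G} (hA : IsCA A) (huA : u ∈ A) :
    (∃ f, 2 ≤ f ∧ Nat.card A = 2 ^ f) ∧
    (Subgroup.normalizer (A : Set G)).index = Nat.card A + 1 := by
  obtain ⟨hsq, hX, ht, hj⟩ := main_count hna hCT hu hA huA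
  obtain ⟨hu1, hu2⟩ := mem_invs.1 hu
  have hev : Even (Nat.card A) := even_card_of_involution huA hu2 hu1
  have hto := odd_index hA hev
  haveI : Fact (Nat.Prime 2) := ⟨Nat.prime_two⟩
  obtain ⟨f, hf⟩ := (IsPGroup.iff_card (p := 2) (G := A)).1
    fun k => ⟨1, by rw [pow_one, sq]; exact Subtype.ext (hsq k k.2)⟩
  have hf2 : 2 ≤ f := by
    by_contra hcon
    obtain ⟨P, hP⟩ := IsPGroup.exists_le_sylow (P := Subgroup.zpowers u) (p := 2)
      (IsPGroup.of_card (n := 1) (by rw [Nat.card_zpowers, orderOf_eq_two hu2 hu1, pow_one]))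
    have h1 := pgroup_le hA P.isPGroup' huA hu2 (hP (Subgroup.mem_zpowers _))
    have h2 : Nat.card P ∣ 2 := (Subgroup.card_dvd_of_le h1).trans
      (by rw [hf]; exact (pow_dvd_pow 2 (show f ≤ 1 by omega)).trans (by simp))
    obtain ⟨M, hM⟩ := NoTwo.exists_index_two_of_cyclic
      (even_iff_two_dvd.2 ((even_iff_two_dvd.1 hev).trans A.card_subgroup_dvd_card)) P
      (isCyclic_of_card_dvd_prime h2)
    rcases IsSimpleGroup.eq_bot_or_eq_top_of_normal M (Subgroup.normal_of_index_eq_two hM)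
      with rfl | rfl
    · rw [Subgroup.index_bot] at hM
      exact hna (isCyclic_of_prime_card hM).commGroup.mul_comm
    · simp at hM
  refine ⟨⟨f, hf2, hf⟩, ?_⟩
  have ha4 : 4 ≤ Nat.card A := by
    rw [hf]
    exact Nat.pow_le_pow_right two_pos hf2
  have hsq' : ∀ v ∈ invs G, ∀ m, m * v = v * m → m * m = 1 := by
    intro v hv m hm
    obtain ⟨y, a, ha, ha1, rfl⟩ := mem_conjs.1 (hX ▸ hv)
    have := hsq _ ((hA.cent a ha ha1 (y⁻¹ * m * y)).1 (by
      calc y⁻¹ * m * y * a = y⁻¹ * (m * (y * a * y⁻¹)) * y := by group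
        _ = _ := by rw [hm]; group))
    calc m * m = y * (y⁻¹ * m * y * (y⁻¹ * m * y)) * y⁻¹ := by group
      _ = 1 := by rw [this]; group
  have hdis : ∀ x : G, x ≠ 1 → x ∉ invs G →
      Disjoint (invs G) (conjs (Subgroup.centralizer {x})) := fun x h1 h2 =>
    hX ▸ disjoint_of_notMem hA (hCT.isCA h1) (self_mem_conjs h1) (hX ▸ h2)
  have hB : ∀ x : G, ∀ h1 : x ≠ 1, ∀ h2 : x ∉ invs G, _ := fun x h1 h2 =>
    norm_two (hCT.isCA h1) (hdis x h1 h2) hsq'
      (Subgroup.mem_centralizer_singleton_iff.2 rfl) h1 (hj x h1 h2)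
  have hB' : ∀ x : G, ∀ h1 : x ≠ 1, ∀ h2 : x ∉ invs G, _ := fun x h1 h2 =>
    third_le (hCT.isCA h1) (odd_of_disjoint (hdis x h1 h2)) (hB x h1 h2).1
  have hA2 : ∀ n ∈ Subgroup.normalizer (A : Set G), n * n = 1 → n ∈ A := fun n hn h =>
    mem_of_sq_mem A hto hn (h ▸ A.one_mem)
  have hout : ∀ y ∈ Subgroup.normalizer (A : Set G), y ∉ A → y ≠ 1 ∧ y ∉ invs G := fun y hy h =>
    ⟨fun e => h (e ▸ A.one_mem), fun e => h (hA2 y hy (mem_invs.1 e).1)⟩
  obtain ⟨x, hx, hxA⟩ : ∃ x ∈ Subgroup.normalizer (A : Set G), x ∉ A := by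
    by_contra hcon
    push Not at hcon
    rw [Subgroup.relIndex_eq_one.2 hcon] at ht
    omega
  have hdvd := dvd_card_cent hA hCT hA2
    (fun y hy h => (hB y (hout y hy h).1 (hout y hy h).2).2) hx hxA
  obtain ⟨hx1, hx2⟩ := hout x hx hxA
  have hI : (invs G).card * Nat.card A = Nat.card G := by
    have h1 := hA.card_conjs
    rw [← card_mul_relIndex, hX, ← ht, Nat.add_sub_cancel, ht] at h1
    refine Nat.eq_of_mul_eq_mul_right hto.pos ?_
    linarith
  have hg4 : Nat.card A ≤ Nat.card G := A.card_le_card_group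
  have hone : (1 : G) ∉ invs G := fun h => (mem_invs.1 h).2 rfl
  obtain ⟨y, -, hy⟩ := Finset.exists_mem_notMem_of_card_lt_card
    (s := insert 1 (invs G ∪ conjs (Subgroup.centralizer {x}))) (t := Finset.univ) (by
      have h1 := Finset.card_insert_le 1 (invs G ∪ conjs (Subgroup.centralizer {x}))
      have h2 := Finset.card_union_le (invs G) (conjs (Subgroup.centralizer {x}))
      have h3 := (hB' x hx1 hx2).2.2.2
      have h4 := Nat.mul_le_mul_left (invs G).card ha4
      rw [Finset.card_univ, ← Nat.card_eq_fintype_card]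
      omega)
  simp only [Finset.mem_insert, Finset.mem_union, not_or] at hy
  obtain ⟨hy1, hy2, hy3⟩ := hy
  have hxy := disjoint_of_notMem (hCT.isCA hx1) (hCT.isCA hy1) (self_mem_conjs hy1) hy3
  have hcov : insert 1 (invs G ∪ (conjs (Subgroup.centralizer {x}) ∪
      conjs (Subgroup.centralizer {y}))) = Finset.univ := by
    rw [Finset.eq_univ_iff_forall]
    intro z
    by_contra hz
    simp only [Finset.mem_insert, Finset.mem_union, not_or] at hz
    obtain ⟨hz1, hz2, hz3, hz4⟩ := hz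
    have hxz := disjoint_of_notMem (hCT.isCA hx1) (hCT.isCA hz1) (self_mem_conjs hz1) hz3
    have hyz := disjoint_of_notMem (hCT.isCA hy1) (hCT.isCA hz1) (self_mem_conjs hz1) hz4
    have h1 := Finset.card_le_univ (insert 1 (conjs (Subgroup.centralizer {x}) ∪
      conjs (Subgroup.centralizer {y}) ∪ conjs (Subgroup.centralizer {z})))
    rw [Finset.card_insert_of_notMem (by simp [one_notMem_conjs]),
      Finset.card_union_of_disjoint (Finset.disjoint_union_left.2 ⟨hxz, hyz⟩),
      Finset.card_union_of_disjoint hxy, ← Nat.card_eq_fintype_card] at h1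
    have := (hB' x hx1 hx2).2.2.1
    have := (hB' y hy1 hy2).2.2.1
    have := (hB' z hz1 hz2).2.2.1
    omega
  have h1 := congrArg Finset.card hcov
  rw [Finset.card_insert_of_notMem (by simp [one_notMem_conjs, hone]),
    Finset.card_union_of_disjoint (Finset.disjoint_union_right.2 ⟨hdis x hx1 hx2, hdis y hy1 hy2⟩),
    Finset.card_union_of_disjoint hxy, Finset.card_univ, ← Nat.card_eq_fintype_card] at h1
  obtain ⟨m, hm⟩ := ((coprime hA (hCT.isCA hy1) (hX ▸ hdis y hy1 hy2)).mul_left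
    (coprime (hCT.isCA hx1) (hCT.isCA hy1) hxy)).mul_dvd_of_dvd_of_dvd
    ((coprime hA (hCT.isCA hx1) (hX ▸ hdis x hx1 hx2)).mul_dvd_of_dvd_of_dvd
      A.card_subgroup_dvd_card (Subgroup.card_subgroup_dvd_card _))
    (Subgroup.card_subgroup_dvd_card _)
  obtain ⟨h, hh⟩ := hev
  obtain ⟨k, hk⟩ := hdvd
  obtain ⟨hx3, hx4, -⟩ := hB' x hx1 hx2
  obtain ⟨hy3, hy4, -⟩ := hB' y hy1 hy2
  have h2 := (Subgroup.normalizer (A : Set G)).index_mul_card
  rw [← card_mul_relIndex] at h2
  unfold cc at hk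
  have h3 := arith (Nat.card G) (invs G).card (conjs (Subgroup.centralizer {x})).card
    (conjs (Subgroup.centralizer {y})).card h (Nat.card (Subgroup.centralizer {x}))
    (Nat.card (Subgroup.centralizer {y})) m k (by omega) (by rw [← hI, hh]; push_cast; ring)
    (by zify [show 1 ≤ Nat.card (Subgroup.centralizer {x}) by omega] at hx4; exact hx4)
    (by zify [show 1 ≤ Nat.card (Subgroup.centralizer {y}) by omega] at hy4; exact hy4)
    (by rw [hm, hh]; push_cast; ring) (by omega)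
    (by rw [hk]; push_cast; congr 1; omega) (by omega) (by omega) (by omega)
  refine Nat.eq_of_mul_eq_mul_right (Nat.mul_pos (Nat.card_pos (α := A)) hto.pos) ?_
  rw [h2]
  zify
  rw [h3, show (A.relIndex (Subgroup.normalizer (A : Set G)) : ℤ) = 2 * h - 1 by omega, hh]
  push_cast
  ring

omit [Fintype G] [DecidableEq G] in
theorem pgl_equiv_psl (F : Type*) [Field F] [Finite F] (hF : ringChar F = 2) :
    Nonempty (Matrix.ProjGenLinGroup (Fin 2) F ≃* Matrix.ProjectiveSpecialLinearGroup (Fin 2) F) := by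
  classical
  obtain ⟨e1⟩ := Mobius.mob_top_equiv (F := F)
  obtain ⟨e2⟩ := Mobius.mob_sq_equiv (F := F)
  have : (powMonoidHom 2 : Fˣ →* Fˣ).range = ⊤ := by
    rw [eq_top_iff]
    intro c _
    obtain ⟨r, hr⟩ := FiniteField.isSquare_of_char_two hF (c : F)
    have hr0 : r ≠ 0 := by
      rintro rfl
      simp at hr
    exact ⟨Units.mk0 r hr0, Units.ext (by simp [hr, sq])⟩
  rw [this] at e2
  exact ⟨e1.symm.trans e2⟩

theorem even_case [IsSimpleGroup G] (hna : ¬ ∀ x y : G, x * y = y * x) (hCT : CT G)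
    (hev : Even (Nat.card G)) :
    ∃ (F : Type) (_ : Field F) (_ : Fintype F) (f : ℕ), 2 ≤ f ∧ Fintype.card F = 2 ^ f ∧
      Nonempty (G ≃* Matrix.ProjectiveSpecialLinearGroup (Fin 2) F) := by
  obtain ⟨u, -, hu2, hu1⟩ := exists_involution_of_even (X := (⊤ : Subgroup G))
    (by rwa [Subgroup.card_top])
  have hu : u ∈ invs G := mem_invs.2 ⟨hu1, hu2⟩
  have hA := hCT.isCA hu2
  have huA : u ∈ Subgroup.centralizer {u} := Subgroup.mem_centralizer_singleton_iff.2 rfl
  generalize Subgroup.centralizer {u} = A at hA huA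
  obtain ⟨hsq, hX, ht, -⟩ := main_count hna hCT hu hA huA
  obtain ⟨⟨f, hf2, hf⟩, hidx⟩ := card_eq hna hCT hu hA huA
  have hto := odd_index hA (even_card_of_involution huA hu2 hu1)
  have hA2 : ∀ n ∈ Subgroup.normalizer (A : Set G), n * n = 1 → n ∈ A := fun n hn h =>
    mem_of_sq_mem A hto hn (h ▸ A.one_mem)
  set H := Subgroup.normalizer (A : Set G) with hH
  let a : G ⧸ H := ((1 : G) : G ⧸ H)
  have hst : ∀ g : G, g • a = a ↔ g ∈ H := fun g => by
    rw [← mem_stabilizer_iff, stabilizer_quotient]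
  have hfree : ∀ k ∈ A, ∀ y : G ⧸ H, y ≠ a → k • y = y → k = 1 := by
    intro k hk y hy h
    obtain ⟨g, rfl⟩ := exists_smul_eq G a y
    by_contra hk1
    have h1 : g⁻¹ * k * g⁻¹⁻¹ ∈ H := by
      rw [← hst, inv_inv, mul_smul, mul_smul, h, inv_smul_smul]
    have h2 := hA.mem_norm hk hk1 (hA2 _ h1 (by
      calc g⁻¹ * k * g⁻¹⁻¹ * (g⁻¹ * k * g⁻¹⁻¹) = g⁻¹ * (k * k) * g := by group
        _ = 1 := by rw [hsq k hk]; group))
    exact hy ((hst g).2 (by simpa using H.inv_mem h2))
  have hK : IsKer a A := by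
    refine ⟨fun k hk => (hst k).2 (Subgroup.le_normalizer hk),
      fun g hg k hk => (Subgroup.mem_normalizer_iff.1 ((hst g).1 hg) k).1 hk, fun y z hy hz => ?_⟩
    let φ : A → {w : G ⧸ H // w ≠ a} := fun k => ⟨(k : G) • y, fun h => hy (smul_left_cancel (k : G)
      (h.trans ((hst k).2 (Subgroup.le_normalizer k.2)).symm))⟩
    have hφ : Function.Injective φ := fun k l e => by
      have e' : (k : G) • y = (l : G) • y := congrArg Subtype.val e
      have := hfree _ (l⁻¹ * k).2 y hy (by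
        rw [Subgroup.coe_mul, mul_smul, e', Subgroup.coe_inv, inv_smul_smul])
      exact (inv_mul_eq_one.1 (Subtype.ext this : l⁻¹ * k = 1)).symm
    have hb := hφ.bijective_of_nat_card_le (by
      have := Set.ncard_add_ncard_compl ({a} : Set (G ⧸ H))
      rw [Set.ncard_singleton, ← Subgroup.index_eq_card, hidx] at this
      have h1 : Nat.card {w : G ⧸ H // w ≠ a} = ({a}ᶜ : Set (G ⧸ H)).ncard := rfl
      omega)
    obtain ⟨k, hk, hk'⟩ := hb.existsUnique ⟨z, hz⟩
    exact ⟨k, congrArg Subtype.val hk, fun l hl => hk' l (Subtype.ext hl)⟩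
  have hHtop : H ≠ ⊤ := fun e => by
    rw [e, Subgroup.index_top] at hidx
    have := Nat.card_pos (α := A)
    omega
  haveI : FaithfulSMul G (G ⧸ H) := by
    have h1 : H.normalCore = ⊥ := (IsSimpleGroup.eq_bot_or_eq_top_of_normal _
      inferInstance).resolve_right fun e => hHtop (top_le_iff.1 (e ▸ H.normalCore_le))
    rw [Subgroup.normalCore_eq_ker, MonoidHom.ker_eq_bot_iff] at h1
    exact ⟨fun h => h1 (Equiv.ext h)⟩
  have h3 : Sharp3 G (G ⧸ H) := by
    intro g p q r hpq hqr hpr hp hq hr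
    obtain ⟨c, rfl⟩ := exists_smul_eq G a p
    have e1 : ∀ w : G ⧸ H, g • w = w → (c⁻¹ * g * c) • c⁻¹ • w = c⁻¹ • w := fun w hw => by
      rw [mul_smul, mul_smul, smul_inv_smul, hw]
    have e2 : ∀ w : G ⧸ H, c • a ≠ w → c⁻¹ • w ≠ a := fun w hw e => hw (by rw [← e, smul_inv_smul])
    have hp' := e1 _ hp
    rw [inv_smul_smul] at hp'
    obtain ⟨k, hk, hk'⟩ := hK.exists_smul (e2 q hpq) (e2 r hpr)
    have hk1 : k ≠ 1 := by
      rintro rfl
      rw [one_smul] at hk'
      exact hqr (smul_left_cancel _ hk')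
    have h1 := hK.eq_of_smul_eq (hK.norm _ hp' k hk) hk (e2 q hpq) (by
      rw [mul_smul, mul_smul, (inv_smul_eq_iff.2 (e1 q hq).symm), hk', e1 r hr])
    have h2 := hK.eq_one ((hA.cent k hk hk1 _).1 (mul_inv_eq_iff_eq_mul.1 h1)) (e2 q hpq) (e1 q hq)
    calc g = c * (c⁻¹ * g * c) * c⁻¹ := by group
      _ = 1 := by rw [h2]; group
  obtain ⟨g, hg⟩ : ∃ g, g ∉ H := by
    by_contra hcon
    push Not at hcon
    exact hHtop (eq_top_iff.2 fun g _ => hcon g)
  have hv := mem_invs.1 ((conj_mem_invs g).2 hu)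
  have hvH : g * u * g⁻¹ ∉ H := fun h => hg (hA.mem_norm huA hu2 (hA2 _ h hv.1))
  generalize g * u * g⁻¹ = v at hv hvH
  have hab : a ≠ v • a := fun e => hvH ((hst v).1 e.symm)
  have hs2 : v • v • a = a := by rw [← mul_smul, hv.1, one_smul]
  obtain ⟨F, _, _, hF, hchar⟩ := Sharp.exists_field (f := f) Nat.prime_two (by omega)
  obtain ⟨e1⟩ := Ident.equiv_pgl h3 hab hK (by
    have h1 := hK.card_stab hab
    rw [show Nat.card (stabilizer G a) = Nat.card H by rw [stabilizer_quotient],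
      ← card_mul_relIndex, ← hH] at h1
    have := Nat.eq_of_mul_eq_mul_left Nat.card_pos h1
    omega) rfl hs2 (Sharp.inverted_of_all_invol (fun s h1 h2 => by
      by_contra hs
      have hs1 : s ≠ 1 := by
        rintro rfl
        simp at hs
      have hs' : s ∉ invs G := fun h => hs (mem_invs.1 h).1
      have hodd := odd_of_disjoint
        (hX ▸ disjoint_of_notMem hA (hCT.isCA hs1) (self_mem_conjs hs1) (hX ▸ hs'))
      have h4 := sq_root_of_odd_card hodd (Subgroup.mem_centralizer_singleton_iff.2 rfl)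
      have h5 : s * s ∈ H := by rw [← hst, mul_smul, h1, h2]
      have h6 := (hst s).2 (h4 ▸ H.pow_mem h5 _)
      exact hab (h6.symm.trans h1)) rfl hs2) F (by rw [hF, hf])
  obtain ⟨e2⟩ := pgl_equiv_psl F (ringChar.eq F 2)
  exact ⟨F, inferInstance, inferInstance, f, hf2, hF, ⟨e1.trans e2⟩⟩

end Cfsg.Agent.H4.CAEven2
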