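import Cfsg.Agent.H4.CAChar
import Cfsg.Agent.H4.OddStab

/-! Suzuki's theorem: there is no simple CA-group of odd composite order. -/

set_option autoImplicit false

namespace Cfsg.Agent.H4.CAOdd

open Cfsg.Agent.H4.FeitLow Cfsg.Agent.H4.CABasic Cfsg.Agent.H4.Irr Cfsg.Agent.H4.AbChar
open Cfsg.Agent.H4.CAChar

theorem var_bound {α : Type*} (X : Finset α) (f : α → ℤ) (v : ℤ) (t : ℕ)
    (h1 : t ≤ (X.filter fun x => f x = v).card) (h2 : t ≤ (X.filter fun x => ¬ f x = v).card) :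
    2 * (t : ℤ) * (X.card - t) ≤ ∑ x ∈ X, ∑ y ∈ X, (f x - f y) ^ 2 := by
  classical
  have h3 := Finset.card_filter_add_card_filter_not (s := X) (fun x => f x = v)
  set S := X.filter fun x => f x = v
  set T := X.filter fun x => ¬ f x = v
  have one_le : ∀ p q : ℤ, p ≠ q → 1 ≤ (p - q) ^ 2 := fun p q h =>
    sq_pos_of_ne_zero (sub_ne_zero.2 h)
  have hS : ∀ x ∈ S, (T.card : ℤ) ≤ ∑ y ∈ X, (f x - f y) ^ 2 := by
    intro x hx
    refine le_trans ?_ (Finset.sum_le_sum_of_subset_of_nonneg (Finset.filter_subset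
      (fun x => ¬ f x = v) X) fun _ _ _ => sq_nonneg _)
    rw [Finset.card_eq_sum_ones, Nat.cast_sum]
    refine Finset.sum_le_sum fun y hy => one_le _ _ ?_
    rw [(Finset.mem_filter.1 hx).2]
    exact Ne.symm (Finset.mem_filter.1 hy).2
  have hT : ∀ x ∈ T, (S.card : ℤ) ≤ ∑ y ∈ X, (f x - f y) ^ 2 := by
    intro x hx
    refine le_trans ?_ (Finset.sum_le_sum_of_subset_of_nonneg (Finset.filter_subset
      (fun x => f x = v) X) fun _ _ _ => sq_nonneg _)
    rw [Finset.card_eq_sum_ones, Nat.cast_sum]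
    refine Finset.sum_le_sum fun y hy => one_le _ _ ?_
    rw [(Finset.mem_filter.1 hy).2]
    exact (Finset.mem_filter.1 hx).2
  rw [← Finset.sum_filter_add_sum_filter_not X (fun x => f x = v)]
  have h4 := Finset.card_nsmul_le_sum _ _ _ hS
  have h5 := Finset.card_nsmul_le_sum _ _ _ hT
  simp only [nsmul_eq_mul] at h4 h5
  rw [← h3]
  push_cast
  have h6 : (t : ℤ) ≤ S.card := by exact_mod_cast h1
  have h7 : (t : ℤ) ≤ T.card := by exact_mod_cast h2
  nlinarith [mul_nonneg (sub_nonneg.2 h6) (sub_nonneg.2 h7)]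

variable {G : Type*} [Group G] [Fintype G] {A : Subgroup G}
variable {N : ℕ} {d : Fin N → ℕ} {ρ : ∀ i, Representation ℂ G (Fin (d i) → ℂ)}

variable (ρ A) in
open Classical in
/-- the exceptional characters -/
noncomputable def exc : Finset (Fin N) := Finset.univ.filter fun i =>
  ∃ lam μ : A →* ℂˣ, lam ≠ 1 ∧ μ ≠ 1 ∧ mult ρ lam i ≠ mult ρ μ i

theorem mem_exc {i : Fin N} :
    i ∈ exc A ρ ↔ ∃ lam μ : A →* ℂˣ, lam ≠ 1 ∧ μ ≠ 1 ∧ mult ρ lam i ≠ mult ρ μ i := by
  simp [exc]

theorem var_exc (hρ : IsIrrSys ρ) (hA : IsCA A) {i : Fin N} (hi : i ∈ exc A ρ)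
    (X : Finset (A →* ℂˣ)) (hX : ∀ μ, μ ≠ 1 → μ ∈ X) :
    2 * (A.relIndex (Subgroup.normalizer (A : Set G)) : ℤ) *
      (X.card - A.relIndex (Subgroup.normalizer (A : Set G))) ≤
      ∑ x ∈ X, ∑ y ∈ X, ((mult ρ x i : ℤ) - mult ρ y i) ^ 2 := by
  obtain ⟨lam, μ, hl, hμ, h⟩ := mem_exc.1 hi
  refine var_bound X (fun x => (mult ρ x i : ℤ)) (mult ρ lam i) _ ?_ ?_
  · rw [← card_orb hA hl]
    refine Finset.card_le_card fun ν hν => Finset.mem_filter.2
      ⟨hX ν (ne_one_of_mem_orb hl hν), by rw [mult_orb hρ hA hl hν]⟩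
  · rw [← card_orb hA hμ]
    refine Finset.card_le_card fun ν hν => Finset.mem_filter.2
      ⟨hX ν (ne_one_of_mem_orb hμ hν), ?_⟩
    rw [← mult_orb hρ hA hμ hν]
    exact_mod_cast h.symm

theorem card_exc_le (hρ : IsIrrSys ρ) (hA : IsCA A) {w : ℕ} (hw2 : 2 ≤ w)
    (hw : Nat.card A - 1 = A.relIndex (Subgroup.normalizer (A : Set G)) * w) :
    (exc A ρ).card ≤ w := by
  classical
  haveI := finite_chars hA.comm'
  haveI := Fintype.ofFinite (A →* ℂˣ)
  set t := A.relIndex (Subgroup.normalizer (A : Set G)) with ht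
  let X : Finset (A →* ℂˣ) := Finset.univ.erase 1
  have hX : ∀ μ, μ ∈ X ↔ μ ≠ 1 := by simp [X]
  have hXc : X.card = t * w := by
    rw [Finset.card_erase_of_mem (Finset.mem_univ _), Finset.card_univ, ← Nat.card_eq_fintype_card,
      card_chars hA.comm', hw]
  have h1 : ∑ i, ∑ x ∈ X, ∑ y ∈ X, ((mult ρ x i : ℤ) - mult ρ y i) ^ 2 =
      (t * w) * (2 * (t * w - t)) := by
    rw [Finset.sum_comm, Finset.sum_congr rfl (g := fun _ => 2 * ((t * w : ℤ) - t))]
    · rw [Finset.sum_const, hXc, nsmul_eq_mul]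
      push_cast
      rfl
    intro x hx
    rw [Finset.sum_comm, Finset.sum_congr rfl
      (fun y hy => sum_sq_sub hρ hA ((hX x).1 hx) ((hX y).1 hy)), Finset.sum_ite,
      Finset.sum_const_zero, zero_add, Finset.sum_const, nsmul_eq_mul, mul_comm]
    congr 1
    have h2 := Finset.card_filter_add_card_filter_not (s := X) (fun y => y ∈ orb x)
    have h3 : X.filter (fun y => y ∈ orb x) = orb x := by
      ext y
      rw [Finset.mem_filter, hX]
      exact ⟨fun h => h.2, fun h => ⟨ne_one_of_mem_orb ((hX x).1 hx) h, h⟩⟩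
    rw [h3, card_orb hA ((hX x).1 hx), hXc, ← ht] at h2
    have h4 : ((t + (X.filter fun y => ¬ y ∈ orb x).card : ℕ) : ℤ) = ((t * w : ℕ) : ℤ) := by rw [h2]
    push_cast at h4
    linarith
  have h2 := Finset.card_nsmul_le_sum (exc A ρ) _ _ fun i hi =>
    var_exc hρ hA hi X fun μ hμ => (hX μ).2 hμ
  have h3 := Finset.sum_le_sum_of_subset_of_nonneg (Finset.subset_univ (exc A ρ))
    (f := fun i => ∑ x ∈ X, ∑ y ∈ X, ((mult ρ x i : ℤ) - mult ρ y i) ^ 2)
    fun _ _ _ => Finset.sum_nonneg fun _ _ => Finset.sum_nonneg fun _ _ => sq_nonneg _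
  rw [h1] at h3
  rw [hXc, nsmul_eq_mul, ← ht] at h2
  push_cast at h2
  have ht0 : 0 < t := Nat.pos_of_ne_zero Subgroup.index_ne_zero_of_finite
  have h4 : (0 : ℤ) < 2 * t * (t * w - t) := by
    have : (2 : ℤ) ≤ w := by exact_mod_cast hw2
    have : (0 : ℤ) < t := by exact_mod_cast ht0
    have : (0 : ℤ) < t * w - t := by nlinarith
    positivity
  have h5 : ((exc A ρ).card : ℤ) * (2 * t * (t * w - t)) ≤ w * (2 * t * (t * w - t)) := by
    nlinarith
  exact_mod_cast le_of_mul_le_mul_right h5 h4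

theorem const_on_exc (hρ : IsIrrSys ρ) (hA : IsCA A) (c : Fin N → ℤ)
    (hc : ∀ lam μ : A →* ℂˣ, ∑ i, c i * ((mult ρ lam i : ℤ) - mult ρ μ i) = 0)
    {i j : Fin N} (hi : i ∈ exc A ρ) (hj : j ∈ exc A ρ) : c i = c j := by
  classical
  by_contra hne
  have key : ∀ lam μ : A →* ℂˣ, lam ≠ 1 → μ ≠ 1 → mult ρ lam i = mult ρ μ i ∨
      mult ρ lam j = mult ρ μ j := by
    intro lam μ hl hμ
    by_cases h : μ ∈ orb lam
    · exact Or.inl (by rw [mult_orb hρ hA hl h])
    obtain ⟨α, β, h1, h2, h3⟩ := exists_diff hρ hA hl hμ h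
    have hαβ : α ≠ β := by
      rintro rfl
      omega
    have h4 := hc lam μ
    rw [← Finset.sum_sdiff (Finset.subset_univ {α, β}), Finset.sum_pair hαβ, h1, h2,
      Finset.sum_eq_zero (fun γ hγ => by
        simp only [Finset.mem_sdiff, Finset.mem_univ, Finset.mem_insert, Finset.mem_singleton,
          true_and, not_or] at hγ
        rw [h3 γ hγ.1 hγ.2, mul_zero])] at h4
    have h5 : c α = c β := by linarith
    by_contra hcon
    push Not at hcon
    have h6 : ∀ γ, mult ρ lam γ ≠ mult ρ μ γ → c γ = c α := by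
      intro γ hγ
      by_cases e1 : γ = α
      · rw [e1]
      by_cases e2 : γ = β
      · rw [e2, h5]
      have := h3 γ e1 e2
      omega
    exact hne ((h6 i hcon.1).trans (h6 j hcon.2).symm)
  obtain ⟨lam, μ, hl, hμ, h⟩ := mem_exc.1 hi
  obtain ⟨lam', μ', hl', hμ', h'⟩ := mem_exc.1 hj
  have h1 := (key lam μ hl hμ).resolve_left h
  have h2 : ∀ ν : A →* ℂˣ, ν ≠ 1 → mult ρ ν j = mult ρ lam j := by
    intro ν hν
    rcases key ν lam hν hl with h3 | h3
    · rcases key ν μ hν hμ with h4 | h4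
      · exact absurd (h3.symm.trans h4) h
      · exact h4.trans h1.symm
    · exact h3
  exact h' ((h2 _ hl').trans (h2 _ hμ').symm)

theorem eq_of_real (hρ : IsIrrSys ρ) (hodd : Odd (Nat.card G)) {i j : Fin N}
    (hi : ∀ x, (ρ i).character x⁻¹ = (ρ i).character x)
    (hj : ∀ x, (ρ j).character x⁻¹ = (ρ j).character x) : i = j := by
  classical
  have h1 : ∀ k, ∃ m : ℕ, ip (ρ k).character (ρ k).dual.character = m := fun k => ip_char_nat _ _
  choose m hm using h1
  have h2 : ∑ k, (m k : ℂ) = 1 := by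
    simp only [← hm, ip, Representation.char_dual, inv_inv]
    rw [← Finset.mul_sum, Finset.sum_comm]
    simp only [hρ.orth2]
    rw [Finset.sum_eq_single 1]
    · rw [Nat.card_congr (Equiv.subtypeUnivEquiv (by simp)), inv_mul_cancel₀ (card_ne_zero G)]
    · intro x _ hx
      haveI : IsEmpty {z : G // x * z * x = z} := ⟨fun z => hx (by
        have h3 : (z : G) * x * (z : G)⁻¹ = x⁻¹ := by
          rw [mul_inv_eq_iff_eq_mul, eq_inv_mul_iff_mul_eq, ← mul_assoc, z.2]
        have h4 : (z : G) * z ∈ Subgroup.centralizer {x} := by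
          rw [Subgroup.mem_centralizer_singleton_iff, ← mul_inv_eq_iff_eq_mul]
          calc (z : G) * z * x * ((z : G) * z)⁻¹ = z * (z * x * (z : G)⁻¹) * (z : G)⁻¹ := by group
            _ = (z * x * (z : G)⁻¹)⁻¹ := by conv_lhs => rw [h3]
                                            group
            _ = x := by rw [h3, inv_inv]
        have h5 := Subgroup.mem_centralizer_singleton_iff.1 (OddStab.eq_one_of_sq_of_odd hodd _ h4)
        rw [h5, mul_inv_cancel_right] at h3
        exact OddStab.eq_one_of_sq_of_odd hodd ⊥ (eq_inv_iff_mul_eq_one.1 h3))⟩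
      simp
    · simp
  have h3 : ∀ k, (∀ x, (ρ k).character x⁻¹ = (ρ k).character x) → m k = 1 := by
    intro k hk
    have := hm k
    rw [show (ρ k).dual.character = (ρ k).character from funext fun x => by
      rw [Representation.char_dual, hk], hρ.ip_eq, if_pos rfl] at this
    exact_mod_cast this.symm
  by_contra hij
  have h4 : ∑ k, m k = 1 := by exact_mod_cast h2
  have h5 := Finset.sum_le_sum_of_subset (f := m) (Finset.subset_univ {i, j})
  rw [Finset.sum_pair hij, h3 i hi, h3 j hj] at h5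
  omega

theorem inv_mem_conjs {x : G} (hx : x ∈ conjs A) : x⁻¹ ∈ conjs A := by
  obtain ⟨y, a, ha, ha1, rfl⟩ := mem_conjs.1 hx
  exact mem_conjs.2 ⟨y, a⁻¹, A.inv_mem ha, by simpa using ha1, by group⟩

theorem two_le_deg [IsSimpleGroup G] (hρ : IsIrrSys ρ) (hna : ¬ ∀ x y : G, x * y = y * x)
    {i : Fin N} (hi : ¬ ∀ g, ρ i g = 1) : 2 ≤ d i := by
  by_contra h
  have h1 : d i = 1 := by
    have := hρ.pos i
    omega
  apply hna
  have h2 : MonoidHom.ker (ρ i) = ⊥ := (IsSimpleGroup.eq_bot_or_eq_top_of_normal _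
    inferInstance).resolve_right fun e => hi fun g => by
      have : g ∈ MonoidHom.ker (ρ i) := e ▸ Subgroup.mem_top g
      exact this
  intro x y
  apply (MonoidHom.ker_eq_bot_iff _).1 h2
  rw [map_mul, map_mul]
  have h3 : Module.finrank ℂ (Fin (d i) → ℂ) = 1 := by simp [h1]
  obtain ⟨c, hc, -⟩ := LinearMap.existsUnique_eq_smul_id_of_finrank_eq_one h3 (ρ i x)
  rw [hc]
  ext
  simp

end Cfsg.Agent.H4.CAOdd
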