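import Cfsg.Agent.H4.CAOdd

/-! Suzuki's theorem: there is no simple CA-group of odd composite order. -/

set_option autoImplicit false

namespace Cfsg.Agent.H4.CAOdd2

open Cfsg.Agent.H4.FeitLow Cfsg.Agent.H4.CABasic Cfsg.Agent.H4.Irr Cfsg.Agent.H4.AbChar
open Cfsg.Agent.H4.CAChar Cfsg.Agent.H4.CAOdd

theorem arith (a t w g V X SJ SK : ℤ) (ha : a = t * w + 1) (hw : 2 ≤ w) (ht : 1 ≤ t) (hg : 0 < g)
    (h1 : a * t * 4 + g * V + a * t * SK ≤ a * t * g) (hV : t * (a - t) ≤ V)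
    (h2 : g = 1 + X + SJ + SK) (h3 : a * X = g * w) (h4 : (2 * t + 1) * SJ ≤ g * (t - 1)) :
    False := by
  have ha0 : 0 < a := by nlinarith
  have h5 : t * (a * 4 + g * (a - t) + a * SK) ≤ t * (a * g) := by nlinarith
  have h6 : a * 4 + g * (a - t) + a * SK ≤ a * g := le_of_mul_le_mul_left h5 (by omega)
  have h7 : a * g = a + g * w + a * SJ + a * SK := by
    conv_lhs => rw [h2]
    rw [← h3]
    ring
  have h8 : a * 3 + g * (a - t - w) ≤ a * SJ := by nlinarith
  have h9 : (2 * t + 1) * (a * SJ) ≤ a * (g * (t - 1)) := by nlinarith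
  have h10 : (2 * t + 1) * (a * 3 + g * (a - t - w)) ≤ a * (g * (t - 1)) :=
    (mul_le_mul_of_nonneg_left h8 (by omega)).trans h9
  have h11 : 0 ≤ g * ((w - 2) * (t ^ 2 - 1)) :=
    mul_nonneg hg.le (mul_nonneg (by omega) (by nlinarith))
  have h12 : 0 < (2 * t + 1) * (a * 3) := by positivity
  subst ha
  nlinarith

theorem sum_fibers {ι κ : Type*} [Fintype ι] [Fintype κ] [DecidableEq κ] (E : ι → Finset κ) (o : κ)
    (h1 : ∀ i j, i ≠ j → Disjoint (E i) (E j)) (h2 : ∀ x, x ≠ o → ∃ i, x ∈ E i)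
    (h3 : ∀ i, o ∉ E i) (φ : κ → ℤ) : ∑ x, φ x = φ o + ∑ i, ∑ x ∈ E i, φ x := by
  classical
  rw [← Finset.add_sum_erase _ _ (Finset.mem_univ o), ← Finset.sum_biUnion
    (fun i _ j _ hij => h1 i j hij)]
  congr 2
  ext x
  simp only [Finset.mem_erase, Finset.mem_univ, and_true, Finset.mem_biUnion, true_and]
  refine ⟨h2 x, ?_⟩
  rintro ⟨i, hi⟩ rfl
  exact h3 _ hi

theorem partition {ι κ : Type*} [Fintype ι] [Fintype κ] [DecidableEq κ] (E : ι → Finset κ) (o : κ)
    (w : ι → ℕ) (h2 : ∀ x, x ≠ o → ∃ i, x ∈ E i) (h3 : ∀ i, o ∉ E i) (hw : ∀ i, (E i).card ≤ w i)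
    (hN : Fintype.card κ = 1 + ∑ i, w i) :
    (∀ i, (E i).card = w i) ∧ ∀ i j, i ≠ j → Disjoint (E i) (E j) := by
  classical
  have h4 : Finset.univ.biUnion E = Finset.univ.erase o := by
    ext x
    simp only [Finset.mem_erase, Finset.mem_univ, and_true, Finset.mem_biUnion, true_and]
    refine ⟨?_, h2 x⟩
    rintro ⟨i, hi⟩ rfl
    exact h3 _ hi
  have h5 : (Finset.univ.biUnion E).card = ∑ i, w i := by
    rw [h4, Finset.card_erase_of_mem (Finset.mem_univ _), Finset.card_univ, hN]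
    omega
  have h6 := Finset.card_biUnion_le (s := Finset.univ) (t := E)
  have h7 : ∑ i, (E i).card ≤ ∑ i, w i := Finset.sum_le_sum fun i _ => hw i
  refine ⟨fun i => (Finset.sum_eq_sum_iff_of_le (fun i _ => hw i)).1 (by omega) i
    (Finset.mem_univ i), fun i j hij => ?_⟩
  rw [Finset.disjoint_left]
  intro x hx hx'
  have h8 : Finset.univ.biUnion E ⊆ Finset.univ.biUnion (Function.update E i ((E i).erase x)) := by
    intro y hy
    simp only [Finset.mem_biUnion, Finset.mem_univ, true_and] at hy ⊢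
    obtain ⟨k, hk⟩ := hy
    by_cases h : y = x
    · exact ⟨j, by rw [Function.update_of_ne hij.symm, h]; exact hx'⟩
    by_cases h' : k = i
    · exact ⟨i, by rw [Function.update_self]; exact Finset.mem_erase.2 ⟨h, h' ▸ hk⟩⟩
    · exact ⟨k, by rw [Function.update_of_ne h']; exact hk⟩
  have h9 := (Finset.card_le_card h8).trans Finset.card_biUnion_le
  rw [← Finset.add_sum_erase _ _ (Finset.mem_univ i), Function.update_self,
    Finset.sum_congr rfl (g := fun k => (E k).card)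
      (fun k hk => by rw [Function.update_of_ne (Finset.mem_erase.1 hk).1]),
    Finset.card_erase_of_mem hx] at h9
  rw [← Finset.add_sum_erase _ _ (Finset.mem_univ i)] at h7
  have := Finset.card_pos.2 ⟨x, hx⟩
  omega

variable {G : Type*} [Group G] [Fintype G]
variable {N : ℕ} {d : Fin N → ℕ} {ρ : ∀ i, Representation ℂ G (Fin (d i) → ℂ)}

theorem sum_u (hρ : IsIrrSys ρ) {A B : Subgroup G} (h : Disjoint (conjs A) (conjs B))
    (l l' : A →* ℂˣ) (m m' : B →* ℂˣ) :
    ∑ i, ((mult ρ l i : ℤ) - mult ρ l' i) * ((mult ρ m i : ℤ) - mult ρ m' i) = 0 := by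
  have key : ∀ (x x' : A →* ℂˣ) (y y' : B →* ℂˣ), ∑ i, (mult ρ x i : ℤ) * mult ρ y i =
      ∑ i, (mult ρ x' i : ℤ) * mult ρ y' i := by
    intro x x' y y'
    have := Nat.eq_of_mul_eq_mul_left (Nat.mul_pos Nat.card_pos Nat.card_pos)
      ((sum_mult_two hρ h x y).trans (sum_mult_two hρ h x' y').symm)
    exact_mod_cast this
  simp only [sub_mul, mul_sub, Finset.sum_sub_distrib]
  rw [key l l m' m, key l' l m m, key l' l m' m]
  ring

theorem class_number (hρ : IsIrrSys ρ) {n : ℕ} {A : Fin n → Subgroup G} (hA : ∀ i, IsCA (A i))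
    (h1 : ∀ i j, i ≠ j → Disjoint (conjs (A i)) (conjs (A j)))
    (h2 : ∀ x, x ≠ 1 → ∃ i, x ∈ conjs (A i)) (w : Fin n → ℕ)
    (hw : ∀ i, Nat.card (A i) * (conjs (A i)).card = Nat.card G * w i) :
    N = 1 + ∑ i, w i := by
  have h3 : N * Nat.card G = ∑ x : G, cc x := hρ.card_mul
  rw [sum_family h1 h2 cc, cc_one, Finset.sum_congr rfl (g := fun i => Nat.card G * w i)
    (fun i _ => by
      rw [Finset.sum_congr rfl fun x hx => (hA i).cc_eq hx, Finset.sum_const, smul_eq_mul, mul_comm,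
        hw]), ← Finset.mul_sum] at h3
  refine Nat.eq_of_mul_eq_mul_left (Nat.card_pos (α := G)) ?_
  rw [mul_comm, h3]
  ring

theorem exists_w {A : Subgroup G} (hA : IsCA A) : ∃ w : ℕ,
    Nat.card A - 1 = A.relIndex (Subgroup.normalizer (A : Set G)) * w ∧
      Nat.card A * (conjs A).card = Nat.card G * w := by
  obtain ⟨w, hw⟩ := hA.index_dvd
  refine ⟨w, hw, ?_⟩
  have h1 := hA.card_conjs
  rw [← card_mul_relIndex, hw] at h1
  refine Nat.eq_of_mul_eq_mul_left (Nat.pos_of_ne_zero (Subgroup.index_ne_zero_of_finite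
    (H := A.subgroupOf (Subgroup.normalizer (A : Set G))))) ?_
  change A.relIndex _ * _ = A.relIndex _ * _
  linarith

theorem norm_exc (hρ : IsIrrSys ρ) {A : Subgroup G} (hA : IsCA A) {i : Fin N} (hi : i ∈ exc A ρ) :
    ∃ V : ℤ, (A.relIndex (Subgroup.normalizer (A : Set G)) : ℤ) *
      (Nat.card A - A.relIndex (Subgroup.normalizer (A : Set G))) ≤ V ∧
      ((Nat.card A : ℂ) * A.relIndex (Subgroup.normalizer (A : Set G))) *
        ∑ x ∈ conjs A, (ρ i).character x * (ρ i).character x⁻¹ = Nat.card G * V := by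
  classical
  haveI := finite_chars hA.comm'
  haveI := Fintype.ofFinite (A →* ℂˣ)
  refine ⟨Nat.card A * ∑ μ : A →* ℂˣ, (mult ρ μ i : ℤ) ^ 2 - (d i : ℤ) ^ 2, ?_, ?_⟩
  · have h1 := var_exc hρ hA hi Finset.univ fun _ _ => Finset.mem_univ _
    rw [Finset.card_univ, ← Nat.card_eq_fintype_card, card_chars hA.comm'] at h1
    have h2 : (d i : ℤ) = ∑ μ : A →* ℂˣ, (mult ρ μ i : ℤ) := by exact_mod_cast deg_eq_sum hρ hA i
    have h3 : ∀ x y : ℤ, (x - y) ^ 2 = x ^ 2 + y ^ 2 - 2 * (x * y) := fun x y => by ring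
    simp only [h3, Finset.sum_sub_distrib, Finset.sum_add_distrib, ← Finset.mul_sum,
      Finset.sum_const, Finset.card_univ, ← Nat.card_eq_fintype_card, card_chars hA.comm',
      nsmul_eq_mul, ← Finset.sum_mul, ← h2] at h1
    nlinarith
  · have h1 := hA.sum_conjs (fun x => (ρ i).character x * (ρ i).character x⁻¹) (fun g x => by
      have : (x * g * x⁻¹)⁻¹ = x * g⁻¹ * x⁻¹ := by group
      rw [this, Representation.char_conj, Representation.char_conj])
    rw [← card_mul_relIndex, nsmul_eq_mul, nsmul_eq_mul] at h1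
    have h2 := parseval (ρ := ρ) hA i
    rw [← Finset.add_sum_erase _ _ (Finset.mem_univ (1 : A))] at h2
    simp only [OneMemClass.coe_one, inv_one, hρ.char_one] at h2
    push_cast at h1 ⊢
    rw [h1, ← h2]
    ring

theorem no_odd [IsSimpleGroup G] (hna : ¬ ∀ x y : G, x * y = y * x) (hCT : CT G)
    (hodd : Odd (Nat.card G)) : False := by
  classical
  obtain ⟨N, d, ρ, hρ⟩ := exists_irrSys G
  obtain ⟨n, A, hA, hdis, hcov⟩ := hCT.exists_family
  choose w hw hw' using fun i => exists_w (hA i)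
  set t : Fin n → ℕ := fun i => (A i).relIndex (Subgroup.normalizer (A i : Set G)) with ht
  have hao : ∀ i, Odd (Nat.card (A i)) := fun i => hodd.of_dvd_nat (A i).card_subgroup_dvd_card
  have ha : ∀ i, Nat.card (A i) = t i * w i + 1 := fun i => by
    have := (hA i).one_lt_card
    have := hw i
    simp only [ht]
    omega
  have hto : ∀ i, Odd (t i) := fun i => hodd.of_dvd_nat
    ((Subgroup.index_dvd_card _).trans (Subgroup.card_subgroup_dvd_card _))
  have hwe : ∀ i, Even (w i) := fun i => by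
    have h1 := hao i
    rw [ha i, Nat.odd_add_one, Nat.not_odd_iff_even, Nat.even_mul] at h1
    exact h1.resolve_left (Nat.not_even_iff_odd.2 (hto i))
  have hw2 : ∀ i, 2 ≤ w i := fun i => by
    have h1 := (hA i).one_lt_card
    rw [ha i] at h1
    obtain ⟨k, hk⟩ := hwe i
    rcases Nat.eq_zero_or_pos k with h | h
    · simp [hk, h] at h1
    · omega
  have hN := class_number hρ hA hdis hcov w hw'
  obtain ⟨o, ho⟩ := exists_trivial hρ
  have hl0 : ∀ i, ∃ l : A i →* ℂˣ, l ≠ 1 := fun i => by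
    obtain ⟨k₀, hk₀⟩ := (Subgroup.ne_bot_iff_exists_ne_one).1 (hA i).ne_bot
    obtain ⟨ν, hν⟩ := exists_char_ne_one (hA i).comm' hk₀
    exact ⟨ν, fun e => hν (by rw [e]; rfl)⟩
  have hconst : ∀ i {l : A i →* ℂˣ}, l ≠ 1 → ∀ k, k ∉ exc (A i) ρ → ∀ x ∈ conjs (A i),
      (ρ k).character x = (((mult ρ (1 : A i →* ℂˣ) k : ℤ) - mult ρ l k : ℤ) : ℂ) := by
    intro i l hl k hk x hx
    refine char_const (hA i) (fun μ hμ => ?_) hx
    by_contra h
    exact hk (mem_exc.2 ⟨μ, l, hμ, hl, h⟩)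
  have hcov' : ∀ k, k ≠ o → ∃ i, k ∈ exc (A i) ρ := by
    intro k hk
    by_contra h
    push Not at h
    refine hk (eq_of_real hρ hodd (fun x => ?_) (fun x => by rw [ho]))
    by_cases hx : x = 1
    · rw [hx, inv_one]
    obtain ⟨i, hi⟩ := hcov x hx
    obtain ⟨l, hl⟩ := hl0 i
    rw [hconst i hl k (h i) x hi, hconst i hl k (h i) _ (inv_mem_conjs hi)]
  have ho' : ∀ i, o ∉ exc (A i) ρ := fun i h => by
    obtain ⟨l, m, hl, hm, h⟩ := mem_exc.1 h
    rw [mult_trivial ho, mult_trivial ho, if_neg hl, if_neg hm] at h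
    exact h rfl
  obtain ⟨hcard, hdis'⟩ := partition (fun i => exc (A i) ρ) o w hcov' ho'
    (fun i => card_exc_le hρ (hA i) (hw2 i) (hw i)) (by rw [Fintype.card_fin, hN])
  have hl1 : ∀ i, ∃ l : A i →* ℂˣ, l ≠ 1 ∧ ∃ k ∈ exc (A i) ρ,
      (mult ρ (1 : A i →* ℂˣ) k : ℤ) - mult ρ l k ≠ 0 := fun i => by
    obtain ⟨k, hk⟩ := Finset.card_pos.1 (show 0 < (exc (A i) ρ).card by
      rw [hcard]; exact lt_of_lt_of_le two_pos (hw2 i))
    obtain ⟨l, m, hl, hm, h⟩ := mem_exc.1 hk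
    by_cases h1 : mult ρ (1 : A i →* ℂˣ) k = mult ρ l k
    · exact ⟨m, hm, k, hk, by omega⟩
    · exact ⟨l, hl, k, hk, by omega⟩
  choose l hl k0 hk0 hk0' using hl1
  let u : Fin n → Fin N → ℤ := fun i k => (mult ρ (1 : A i →* ℂˣ) k : ℤ) - mult ρ (l i) k
  have huo : ∀ i, u i o = 1 := fun i => by
    simp only [u]
    rw [mult_trivial ho, mult_trivial ho, if_pos rfl, if_neg (hl i)]
    rfl
  have huc : ∀ i j, i ≠ j → ∀ k ∈ exc (A j) ρ, u i k = u i (k0 j) := fun i j hij k hk =>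
    const_on_exc hρ (hA j) (u i) (fun x y => sum_u hρ (hdis i j hij) _ _ _ _) hk (hk0 j)
  obtain ⟨x0, hx0⟩ := exists_ne (1 : G)
  obtain ⟨i0, -⟩ := hcov x0 hx0
  obtain ⟨i, -, hi⟩ := Finset.exists_min_image Finset.univ t ⟨i0, Finset.mem_univ _⟩
  let J := (Finset.univ.erase i).filter fun j => u j (k0 i) = 0
  have hJ : ∀ j ∈ J, u i (k0 j) ≠ 0 := by
    intro j hj h0
    obtain ⟨hj1, hj2⟩ := Finset.mem_filter.1 hj
    have hji := (Finset.mem_erase.1 hj1).1
    have h1 : ∑ k, u i k * u j k = 0 := sum_u hρ (hdis i j hji.symm) _ _ _ _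
    rw [sum_fibers _ o hdis' hcov' ho', huo, huo] at h1
    have h2 : Even (∑ m, ∑ k ∈ exc (A m) ρ, u i k * u j k) := by
      refine Finset.even_sum _ fun m _ => ?_
      by_cases hm : m = i
      · rw [hm, Finset.sum_eq_zero fun k hk => by rw [huc j i hji k hk, hj2, mul_zero]]
        exact Even.zero
      by_cases hm' : m = j
      · rw [hm', Finset.sum_eq_zero fun k hk => by rw [huc i j hji.symm k hk, h0, zero_mul]]
        exact Even.zero
      rw [Finset.sum_congr rfl fun k hk => by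
        rw [huc i m (Ne.symm hm) k hk, huc j m (Ne.symm hm') k hk], Finset.sum_const, hcard,
        nsmul_eq_mul]
      exact ((hwe m).natCast (α := ℤ)).mul_right _
    obtain ⟨c, hc⟩ := h2
    omega
  have one_le : ∀ p : ℤ, p ≠ 0 → 1 ≤ p ^ 2 := fun p h => sq_pos_of_ne_zero h
  have hJw : (∑ j ∈ J, (w j : ℤ)) ≤ t i - 1 := by
    have h1 : ∑ k, u i k ^ 2 = t i + 1 := sum_sq_one_sub hρ (hA i) (hl i)
    rw [sum_fibers _ o hdis' hcov' ho', huo, ← Finset.add_sum_erase _ _ (Finset.mem_univ i)] at h1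
    have h2 : 1 ≤ ∑ k ∈ exc (A i) ρ, u i k ^ 2 :=
      (one_le _ (hk0' i)).trans (Finset.single_le_sum (f := fun k => u i k ^ 2)
        (fun _ _ => sq_nonneg _) (hk0 i))
    have h3 : ∑ j ∈ J, (w j : ℤ) ≤ ∑ j ∈ J, ∑ k ∈ exc (A j) ρ, u i k ^ 2 := by
      refine Finset.sum_le_sum fun j hj => ?_
      have hji := (Finset.mem_erase.1 (Finset.mem_filter.1 hj).1).1
      rw [← hcard, Finset.card_eq_sum_ones, Nat.cast_sum]
      refine Finset.sum_le_sum fun k hk => one_le _ ?_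
      rw [huc i j hji.symm k hk]
      exact hJ j hj
    have h4 := Finset.sum_le_sum_of_subset_of_nonneg (Finset.filter_subset
      (fun j => u j (k0 i) = 0) (Finset.univ.erase i))
      (f := fun j => ∑ k ∈ exc (A j) ρ, u i k ^ 2)
      fun _ _ _ => Finset.sum_nonneg fun _ _ => sq_nonneg _
    have h5 : ∑ j ∈ J, ∑ k ∈ exc (A j) ρ, u i k ^ 2 ≤
      ∑ j ∈ Finset.univ.erase i, ∑ k ∈ exc (A j) ρ, u i k ^ 2 := h4
    omega
  obtain ⟨V, hV, hV'⟩ := norm_exc hρ (hA i) (hk0 i)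
  have hnorm := hρ.orth1 (k0 i) (k0 i)
  rw [if_pos rfl, inv_mul_eq_one₀ (card_ne_zero G), sum_family hdis hcov,
    ← Finset.add_sum_erase _ _ (Finset.mem_univ i), Finset.sum_congr (s₁ := Finset.univ.erase i) rfl
      (g := fun j => ((u j (k0 i) ^ 2 * (conjs (A j)).card : ℤ) : ℂ)) (fun j hj => by
        have hj' : k0 i ∉ exc (A j) ρ :=
          Finset.disjoint_left.1 (hdis' i j (Finset.mem_erase.1 hj).1.symm) (hk0 i)
        rw [Finset.sum_congr rfl fun x hx => by
          rw [hconst j (hl j) _ hj' x hx, hconst j (hl j) _ hj' _ (inv_mem_conjs hx)],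
          Finset.sum_const, nsmul_eq_mul]
        simp only [u]
        push_cast
        ring)] at hnorm
  simp only [inv_one, hρ.char_one] at hnorm
  have hnorm' : (Nat.card (A i) : ℤ) * t i * Nat.card G = Nat.card (A i) * t i * (d (k0 i)) ^ 2 +
      Nat.card G * V + Nat.card (A i) * t i *
        ∑ j ∈ Finset.univ.erase i, u j (k0 i) ^ 2 * (conjs (A j)).card := by
    have : (((Nat.card (A i) : ℤ) * t i * Nat.card G : ℤ) : ℂ) =
        ((Nat.card (A i) * t i * (d (k0 i)) ^ 2 + Nat.card G * V + Nat.card (A i) * t i *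
        ∑ j ∈ Finset.univ.erase i, u j (k0 i) ^ 2 * (conjs (A j)).card : ℤ) : ℂ) := by
      push_cast at hnorm ⊢
      rw [← hV']
      conv_lhs => rw [hnorm]
      simp only [ht]
      ring
    exact_mod_cast this
  have hd : 2 ≤ d (k0 i) := two_le_deg hρ hna fun h => ho' i (by
    have : k0 i = o := hρ.eq_of_trivial h fun g => eq_one_of_char_eq (ρ o) ⊤
      (fun k _ => by rw [ho]) g (Subgroup.mem_top g)
    exact this ▸ hk0 i)
  have hG := sum_family hdis hcov (fun _ => (1 : ℤ))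
  rw [← Finset.add_sum_erase _ _ (Finset.mem_univ i),
    ← Finset.sum_filter_add_sum_filter_not (Finset.univ.erase i) (fun j => u j (k0 i) = 0)] at hG
  simp only [Finset.sum_const, nsmul_eq_mul, mul_one, Finset.card_univ,
    ← Nat.card_eq_fintype_card] at hG
  have hSK : ∑ j ∈ (Finset.univ.erase i).filter (fun j => ¬ u j (k0 i) = 0),
      ((conjs (A j)).card : ℤ) ≤
      ∑ j ∈ Finset.univ.erase i, u j (k0 i) ^ 2 * (conjs (A j)).card := by
    refine le_trans (Finset.sum_le_sum fun j hj => ?_) (Finset.sum_le_sum_of_subset_of_nonneg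
      (Finset.filter_subset (fun j => ¬ u j (k0 i) = 0) _) fun _ _ _ => by positivity)
    exact le_mul_of_one_le_left (Nat.cast_nonneg _) (one_le _ (Finset.mem_filter.1 hj).2)
  have ht1 : 1 ≤ t i := (hto i).pos
  refine arith (Nat.card (A i)) (t i) (w i) (Nat.card G) V (conjs (A i)).card
    (∑ j ∈ J, ((conjs (A j)).card : ℤ))
    (∑ j ∈ (Finset.univ.erase i).filter (fun j => ¬ u j (k0 i) = 0), ((conjs (A j)).card : ℤ))
    (by exact_mod_cast ha i) (by exact_mod_cast hw2 i)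
    (by exact_mod_cast ht1) (by exact_mod_cast Nat.card_pos) ?_ hV (by rw [hG, ← add_assoc, ← add_assoc])
    (by exact_mod_cast hw' i) ?_
  · have h1 : (4 : ℤ) ≤ (d (k0 i) : ℤ) ^ 2 := by
      have : (2 : ℤ) ≤ d (k0 i) := by exact_mod_cast hd
      nlinarith
    have h2 : (0 : ℤ) ≤ Nat.card (A i) * t i := by positivity
    have h3 := mul_le_mul_of_nonneg_left h1 h2
    have h4 := mul_le_mul_of_nonneg_left hSK h2
    linarith
  · refine le_trans ?_ (mul_le_mul_of_nonneg_left hJw (Nat.cast_nonneg _))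
    rw [Finset.mul_sum, Finset.mul_sum]
    refine Finset.sum_le_sum fun j _ => ?_
    have h1 : (Nat.card (A j) : ℤ) * (conjs (A j)).card = Nat.card G * w j := by
      exact_mod_cast hw' j
    rw [← h1]
    refine mul_le_mul_of_nonneg_right ?_ (Nat.cast_nonneg _)
    have h2 := hi j (Finset.mem_univ j)
    have h3 : 2 * t i + 1 ≤ Nat.card (A j) := by
      rw [ha j]
      nlinarith [hw2 j]
    exact_mod_cast h3

end Cfsg.Agent.H4.CAOdd2
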